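import Cfsg.Agent.Lib.Schur.D4Two.Mats

/-!
The evaluation of the checks.
-/

set_option autoImplicit false

namespace CfsgLib.Schur.D4Two

theorem cert_ok : cert.Ok tab where
  symm := by decide +kernel
  dec := by decide +kernel
  p1 := by decide +kernel
  p2 := by decide +kernel
  p3 := by decide +kernel
  m12 := by decide +kernel
  m31 := by decide +kernel
  m32 := by decide +kernel
  run_eq := by decide +kernel
  far := by decide +kernel
  paths := by decide +kernel

theorem tau_isCom : ∀ r s : Fin 24, tab.isCom r s = true → tab.isCom (tau r) (tau s) = true := by
  decide +kernel

theorem tau_sum : ∀ r s v : Fin 24, tab.sum r s = some v → tab.sum (tau r) (tau s) = some (tau v) := by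
  decide +kernel

theorem sqCheck_eq : sqCheck = true := by decide +kernel

theorem relsCheck_eq : relsCheck = true := by decide +kernel

theorem baseCheck_eq : baseCheck = true := by decide +kernel

end CfsgLib.Schur.D4Two
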