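import Cfsg.Agent.Lib.Schur.D4Two.Tab

/-!
The tables of the root system of type D4, a certificate for them, and 8×8 matrices modulo 3 generating
a central extension of the group over the field with two elements.
-/

set_option autoImplicit false
set_option maxRecDepth 4000

namespace CfsgLib.Schur.D4Two

/-- Row `r`, entry `s`: one more than the index of the sum of the two roots, or zero. -/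
def sumRows : List (List ℕ) := [[0, 0, 0, 0, 0, 0, 0, 0, 0, 0, 0, 0, 0, 0, 2, 3, 4, 5, 0, 7, 8, 9, 10, 0],
    [0, 0, 0, 0, 0, 0, 0, 0, 0, 1, 0, 0, 3, 4, 0, 0, 0, 6, 7, 0, 11, 12, 0, 15],
    [0, 0, 0, 0, 0, 0, 0, 0, 1, 0, 0, 2, 0, 5, 0, 0, 6, 0, 8, 11, 0, 0, 13, 16],
    [0, 0, 0, 0, 0, 0, 0, 1, 0, 0, 2, 0, 5, 0, 0, 6, 0, 0, 9, 12, 0, 0, 14, 17],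
    [0, 0, 0, 0, 0, 0, 1, 0, 0, 0, 3, 4, 0, 0, 6, 0, 0, 0, 10, 0, 13, 14, 0, 18],
    [0, 0, 0, 0, 0, 0, 2, 3, 4, 5, 0, 0, 0, 0, 0, 0, 0, 0, 0, 15, 16, 17, 18, 0],
    [0, 0, 0, 0, 1, 2, 0, 0, 0, 0, 0, 0, 8, 9, 0, 11, 12, 0, 0, 0, 0, 0, 19, 20],
    [0, 0, 0, 1, 0, 3, 0, 0, 0, 0, 0, 7, 0, 10, 11, 0, 0, 13, 0, 0, 0, 19, 0, 21],
    [0, 0, 1, 0, 0, 4, 0, 0, 0, 0, 7, 0, 10, 0, 12, 0, 0, 14, 0, 0, 19, 0, 0, 22],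
    [0, 1, 0, 0, 0, 5, 0, 0, 0, 0, 8, 9, 0, 0, 0, 13, 14, 0, 0, 19, 0, 0, 0, 23],
    [0, 0, 0, 2, 3, 0, 0, 0, 7, 8, 0, 0, 0, 0, 0, 0, 15, 16, 0, 0, 0, 20, 21, 0],
    [0, 0, 2, 0, 4, 0, 0, 7, 0, 9, 0, 0, 0, 0, 0, 15, 0, 17, 0, 0, 20, 0, 22, 0],
    [0, 3, 0, 5, 0, 0, 8, 0, 10, 0, 0, 0, 0, 0, 16, 0, 18, 0, 0, 21, 0, 23, 0, 0],
    [0, 4, 5, 0, 0, 0, 9, 10, 0, 0, 0, 0, 0, 0, 17, 18, 0, 0, 0, 22, 23, 0, 0, 0],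
    [2, 0, 0, 0, 6, 0, 0, 11, 12, 0, 0, 0, 16, 17, 0, 0, 0, 0, 20, 0, 0, 0, 24, 0],
    [3, 0, 0, 6, 0, 0, 11, 0, 0, 13, 0, 15, 0, 18, 0, 0, 0, 0, 21, 0, 0, 24, 0, 0],
    [4, 0, 6, 0, 0, 0, 12, 0, 0, 14, 15, 0, 18, 0, 0, 0, 0, 0, 22, 0, 24, 0, 0, 0],
    [5, 6, 0, 0, 0, 0, 0, 13, 14, 0, 16, 17, 0, 0, 0, 0, 0, 0, 23, 24, 0, 0, 0, 0],
    [0, 7, 8, 9, 10, 0, 0, 0, 0, 0, 0, 0, 0, 0, 20, 21, 22, 23, 0, 0, 0, 0, 0, 0],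
    [7, 0, 11, 12, 0, 15, 0, 0, 0, 19, 0, 0, 21, 22, 0, 0, 0, 24, 0, 0, 0, 0, 0, 0],
    [8, 11, 0, 0, 13, 16, 0, 0, 19, 0, 0, 20, 0, 23, 0, 0, 24, 0, 0, 0, 0, 0, 0, 0],
    [9, 12, 0, 0, 14, 17, 0, 19, 0, 0, 20, 0, 23, 0, 0, 24, 0, 0, 0, 0, 0, 0, 0, 0],
    [10, 0, 13, 14, 0, 18, 19, 0, 0, 0, 21, 22, 0, 0, 24, 0, 0, 0, 0, 0, 0, 0, 0, 0],
    [0, 15, 16, 17, 18, 0, 20, 21, 22, 23, 0, 0, 0, 0, 0, 0, 0, 0, 0, 0, 0, 0, 0, 0]]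

/-- The tables of D4. -/
def tab : Tab 24 where
  sum r s :=
    if h : (sumRows.getD r.val []).getD s.val 0 = 0 then none
    else if h' : (sumRows.getD r.val []).getD s.val 0 - 1 < 24 then some ⟨_, h'⟩ else none
  neg r := ⟨23 - r.val, by omega⟩

/-- The certificate. -/
def cert : Cert 24 where
  dp := [(1, 9), (0, 14), (0, 15), (0, 16), (0, 17), (1, 17), (0, 19), (0, 20),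
    (0, 21), (0, 22), (1, 20), (1, 21), (2, 22), (3, 22), (1, 23), (2, 23),
    (3, 23), (4, 23), (6, 22), (6, 23), (7, 23), (8, 23), (9, 23), (14, 22)]
  th := 23
  p1 := ⟨15, 11, 22, 14, 21⟩
  p2 := ⟨17, 10, 21, 15, 19⟩
  p3 := ⟨19, 5, 22, 14, 17⟩
  known := [(18, 23), (13, 23), (12, 23), (11, 18), (9, 21), (9, 20), (9, 17), (8, 22),
    (8, 19), (8, 16), (7, 22), (7, 19), (7, 15), (6, 21), (6, 20), (6, 14),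
    (5, 12), (4, 22), (4, 16), (4, 15), (3, 21), (3, 17), (3, 14), (3, 9),
    (2, 20), (2, 17), (2, 14), (1, 19), (1, 16), (1, 15), (1, 7), (0, 18),
    (0, 13), (0, 12), (0, 11), (0, 10), (0, 5), (20, 21), (19, 22), (17, 21),
    (17, 20), (16, 22), (16, 19), (15, 22), (15, 16), (14, 20), (13, 18), (12, 18),
    (12, 13), (11, 23), (11, 13), (10, 23), (10, 18), (10, 12), (10, 11), (7, 8),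
    (6, 9), (5, 23), (5, 13), (5, 11), (5, 10), (4, 8), (4, 7), (3, 6),
    (2, 9), (2, 6), (2, 3), (1, 8), (1, 4), (14, 21), (15, 19), (14, 17)]
  steps := [(1, 4, 0), (1, 8, 0), (2, 3, 10), (2, 6, 0), (2, 9, 11), (3, 6, 5), (4, 7, 5), (4, 8, 10),
    (5, 10, 8), (5, 11, 3), (5, 13, 4), (5, 23, 1), (6, 9, 5), (7, 8, 5), (10, 11, 4), (10, 12, 3),
    (10, 18, 3), (10, 23, 2), (11, 13, 2), (11, 23, 1), (12, 13, 1), (12, 18, 1), (13, 18, 1), (14, 20, 1),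
    (15, 16, 0), (15, 22, 0), (16, 19, 0), (16, 22, 10), (17, 20, 0), (17, 21, 0), (19, 22, 0), (20, 21, 0),
    (0, 5, 6), (0, 10, 4), (0, 11, 2), (0, 12, 1), (0, 13, 2), (0, 18, 1), (1, 7, 0), (1, 15, 2),
    (1, 16, 2), (1, 19, 2), (2, 14, 0), (2, 17, 4), (2, 20, 1), (3, 9, 0), (3, 14, 0), (3, 17, 1),
    (3, 21, 1), (4, 15, 0), (4, 16, 0), (4, 22, 2), (5, 12, 1), (6, 14, 0), (6, 20, 1), (6, 21, 4),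
    (7, 15, 0), (7, 19, 0), (7, 22, 2), (8, 16, 0), (8, 19, 0), (8, 22, 2), (9, 17, 0), (9, 20, 0),
    (9, 21, 0), (11, 18, 1), (12, 23, 1), (13, 23, 1), (18, 23, 1)]
  paths := [⟨2, 11, 9, 1, 8⟩, ⟨3, 10, 9, 1, 7⟩, ⟨6, 5, 9, 1, 4⟩, ⟨2, 8, 14, 0, 11⟩, ⟨3, 7, 14, 0, 10⟩,
    ⟨6, 4, 14, 0, 5⟩, ⟨1, 9, 15, 0, 12⟩, ⟨4, 6, 15, 0, 10⟩, ⟨7, 3, 15, 0, 5⟩, ⟨1, 9, 16, 0, 13⟩,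
    ⟨4, 6, 16, 0, 11⟩, ⟨8, 2, 16, 0, 5⟩, ⟨2, 8, 17, 0, 13⟩, ⟨3, 7, 17, 0, 12⟩, ⟨9, 1, 17, 0, 5⟩,
    ⟨2, 11, 17, 1, 16⟩, ⟨3, 10, 17, 1, 15⟩, ⟨14, 0, 17, 1, 4⟩, ⟨1, 9, 19, 0, 18⟩, ⟨7, 3, 19, 0, 11⟩,
    ⟨8, 2, 19, 0, 10⟩, ⟨2, 8, 20, 0, 18⟩, ⟨6, 4, 20, 0, 12⟩, ⟨9, 1, 20, 0, 10⟩, ⟨3, 7, 21, 0, 18⟩,
    ⟨6, 4, 21, 0, 13⟩, ⟨9, 1, 21, 0, 11⟩, ⟨4, 6, 22, 0, 18⟩, ⟨7, 3, 22, 0, 13⟩, ⟨8, 2, 22, 0, 12⟩,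
    ⟨2, 11, 20, 1, 19⟩, ⟨6, 5, 20, 1, 15⟩, ⟨14, 0, 20, 1, 7⟩, ⟨3, 10, 21, 1, 19⟩, ⟨6, 5, 21, 1, 16⟩,
    ⟨14, 0, 21, 1, 8⟩, ⟨4, 10, 22, 2, 20⟩, ⟨7, 5, 22, 2, 17⟩, ⟨15, 0, 22, 2, 9⟩, ⟨4, 11, 22, 3, 21⟩,
    ⟨8, 5, 22, 3, 17⟩, ⟨16, 0, 22, 3, 9⟩, ⟨5, 6, 23, 1, 19⟩, ⟨10, 3, 23, 1, 16⟩, ⟨11, 2, 23, 1, 15⟩,
    ⟨5, 7, 23, 2, 20⟩, ⟨10, 4, 23, 2, 17⟩, ⟨12, 1, 23, 2, 14⟩, ⟨5, 8, 23, 3, 21⟩, ⟨11, 4, 23, 3, 17⟩,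
    ⟨13, 1, 23, 3, 14⟩, ⟨5, 9, 23, 4, 22⟩, ⟨12, 3, 23, 4, 16⟩, ⟨13, 2, 23, 4, 15⟩, ⟨7, 11, 22, 6, 21⟩,
    ⟨8, 10, 22, 6, 20⟩, ⟨19, 0, 22, 6, 9⟩, ⟨10, 8, 23, 6, 21⟩, ⟨11, 7, 23, 6, 20⟩, ⟨18, 1, 23, 6, 14⟩,
    ⟨10, 9, 23, 7, 22⟩, ⟨12, 6, 23, 7, 19⟩, ⟨18, 2, 23, 7, 15⟩, ⟨11, 9, 23, 8, 22⟩, ⟨13, 6, 23, 8, 19⟩,
    ⟨18, 3, 23, 8, 16⟩, ⟨12, 8, 23, 9, 21⟩, ⟨13, 7, 23, 9, 20⟩, ⟨18, 4, 23, 9, 17⟩, ⟨15, 11, 22, 14, 21⟩,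
    ⟨16, 10, 22, 14, 20⟩, ⟨19, 5, 22, 14, 17⟩]

/-- The matrices modulo 3. -/
def mats : List (List (List ℕ)) := [[[1, 2, 1, 0, 0, 0, 0, 0], [0, 0, 1, 0, 0, 0, 0, 0], [0, 1, 0, 0, 0, 0, 0, 0], [0, 0, 2, 0, 0, 2, 1, 0], [0, 2, 0, 0, 0, 2, 1, 2], [0, 1, 1, 0, 0, 2, 0, 0], [0, 2, 1, 1, 0, 2, 0, 0], [0, 1, 2, 1, 2, 0, 0, 0]],
    [[2, 2, 2, 1, 0, 0, 0, 0], [1, 0, 2, 1, 0, 0, 0, 0], [1, 1, 0, 0, 0, 2, 1, 0], [2, 0, 1, 2, 0, 2, 1, 0], [0, 2, 0, 0, 2, 0, 1, 0], [1, 1, 2, 0, 0, 0, 1, 0], [1, 2, 2, 1, 0, 0, 1, 0], [2, 1, 1, 2, 0, 0, 1, 2]],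
    [[1, 0, 0, 0, 0, 0, 0, 0], [2, 1, 0, 2, 0, 1, 2, 0], [2, 0, 1, 2, 0, 1, 2, 0], [1, 0, 0, 2, 0, 2, 1, 0], [0, 0, 0, 0, 2, 2, 1, 0], [2, 0, 0, 0, 0, 1, 1, 0], [2, 0, 0, 0, 0, 0, 2, 0], [1, 0, 0, 0, 0, 0, 0, 2]],
    [[1, 1, 0, 1, 0, 2, 1, 0], [0, 0, 0, 2, 0, 1, 2, 0], [0, 2, 1, 2, 0, 1, 2, 0], [0, 0, 0, 1, 0, 0, 0, 0], [0, 1, 0, 1, 2, 1, 2, 0], [0, 2, 0, 0, 0, 1, 1, 0], [0, 1, 0, 2, 0, 1, 1, 0], [0, 2, 0, 1, 0, 2, 1, 2]],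
    [[2, 0, 0, 0, 0, 2, 1, 0], [1, 1, 0, 0, 0, 2, 1, 0], [1, 0, 2, 1, 0, 0, 0, 0], [2, 0, 0, 1, 0, 1, 2, 0], [0, 0, 0, 1, 2, 1, 0, 0], [1, 0, 0, 0, 0, 0, 1, 0], [1, 0, 0, 0, 0, 2, 2, 0], [2, 0, 0, 0, 0, 1, 0, 2]],
    [[1, 2, 1, 0, 0, 0, 0, 0], [0, 0, 1, 0, 0, 0, 0, 0], [0, 1, 0, 0, 0, 0, 0, 0], [0, 0, 2, 0, 0, 2, 1, 0], [0, 2, 0, 0, 0, 2, 0, 1], [0, 1, 1, 0, 0, 2, 0, 0], [0, 2, 1, 1, 0, 2, 0, 0], [0, 1, 2, 0, 1, 2, 0, 0]],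
    [[2, 0, 0, 0, 0, 0, 2, 1], [1, 1, 0, 0, 0, 0, 2, 1], [1, 1, 0, 0, 2, 1, 0, 0], [0, 2, 0, 0, 2, 1, 1, 1], [1, 2, 0, 0, 2, 0, 1, 2], [1, 1, 1, 0, 2, 0, 0, 0], [2, 1, 1, 2, 0, 0, 2, 1], [2, 1, 1, 2, 0, 0, 1, 2]],
    [[1, 0, 0, 0, 0, 0, 0, 0], [2, 0, 2, 0, 1, 2, 1, 2], [2, 2, 0, 0, 1, 2, 1, 2], [0, 0, 0, 2, 2, 1, 2, 1], [2, 0, 0, 0, 1, 1, 2, 1], [2, 0, 0, 0, 0, 2, 2, 1], [1, 0, 0, 0, 0, 0, 1, 1], [1, 0, 0, 0, 0, 0, 0, 2]],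
    [[1, 2, 1, 0, 2, 1, 2, 1], [0, 2, 2, 0, 1, 2, 1, 2], [0, 1, 0, 0, 1, 2, 1, 2], [0, 1, 2, 2, 0, 0, 0, 0], [0, 1, 1, 0, 0, 2, 1, 2], [0, 2, 0, 0, 0, 2, 2, 1], [0, 2, 2, 0, 1, 2, 2, 0], [0, 0, 1, 0, 2, 1, 2, 0]],
    [[2, 0, 0, 0, 2, 1, 0, 0], [1, 1, 0, 0, 2, 1, 0, 0], [1, 1, 0, 0, 0, 0, 2, 1], [0, 2, 0, 0, 1, 2, 2, 0], [1, 2, 0, 0, 0, 2, 0, 0], [1, 2, 0, 0, 2, 0, 0, 0], [2, 2, 0, 2, 2, 1, 0, 0], [2, 1, 1, 2, 1, 2, 0, 0]],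
    [[2, 0, 0, 0, 0, 0, 0, 0], [2, 0, 2, 1, 0, 0, 2, 0], [1, 2, 0, 1, 0, 0, 2, 0], [0, 0, 0, 1, 0, 0, 1, 0], [1, 0, 0, 0, 1, 0, 1, 0], [2, 0, 0, 0, 0, 1, 1, 0], [0, 0, 0, 0, 0, 0, 2, 0], [0, 0, 0, 0, 0, 0, 0, 2]],
    [[1, 1, 1, 2, 0, 0, 1, 0], [1, 1, 2, 1, 0, 0, 2, 0], [2, 1, 0, 1, 0, 0, 2, 0], [1, 2, 2, 2, 0, 0, 0, 0], [2, 2, 1, 2, 1, 0, 2, 0], [0, 2, 0, 0, 0, 1, 1, 0], [1, 2, 2, 1, 0, 0, 1, 0], [2, 1, 1, 2, 0, 0, 1, 2]],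
    [[1, 0, 0, 0, 0, 0, 0, 0], [1, 2, 0, 1, 0, 0, 2, 0], [2, 0, 2, 1, 0, 0, 2, 0], [2, 0, 0, 1, 0, 0, 1, 0], [2, 0, 0, 0, 1, 0, 1, 0], [2, 0, 0, 0, 0, 1, 1, 0], [2, 0, 0, 0, 0, 0, 2, 0], [1, 0, 0, 0, 0, 0, 0, 2]],
    [[2, 0, 0, 2, 0, 0, 1, 0], [2, 1, 0, 1, 0, 0, 2, 0], [1, 1, 2, 1, 0, 0, 2, 0], [2, 2, 0, 2, 0, 0, 0, 0], [1, 2, 0, 2, 1, 0, 2, 0], [0, 2, 0, 0, 0, 1, 1, 0], [2, 2, 0, 1, 0, 0, 1, 0], [1, 1, 0, 2, 0, 0, 1, 2]],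
    [[2, 0, 0, 0, 0, 0, 0, 2], [1, 1, 0, 0, 0, 0, 0, 2], [1, 1, 0, 0, 2, 1, 0, 0], [0, 2, 0, 0, 2, 1, 2, 2], [1, 2, 0, 0, 2, 0, 0, 1], [1, 1, 1, 0, 2, 0, 0, 0], [2, 1, 1, 2, 0, 0, 0, 2], [0, 0, 0, 0, 0, 0, 0, 1]],
    [[1, 0, 0, 0, 0, 0, 0, 0], [2, 0, 2, 0, 1, 2, 0, 1], [2, 2, 0, 0, 1, 2, 0, 1], [0, 0, 0, 2, 2, 1, 0, 2], [2, 0, 0, 0, 1, 1, 0, 2], [2, 0, 0, 0, 0, 2, 0, 2], [1, 0, 0, 0, 0, 0, 2, 2], [0, 0, 0, 0, 0, 0, 0, 1]],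
    [[1, 2, 1, 0, 2, 1, 0, 2], [0, 2, 2, 0, 1, 2, 0, 1], [0, 1, 0, 0, 1, 2, 0, 1], [0, 1, 2, 2, 0, 0, 0, 0], [0, 1, 1, 0, 0, 2, 0, 1], [0, 2, 0, 0, 0, 2, 0, 2], [0, 2, 2, 0, 1, 2, 2, 0], [0, 2, 1, 0, 2, 1, 0, 0]],
    [[2, 0, 0, 0, 2, 1, 0, 0], [1, 1, 0, 0, 2, 1, 0, 0], [1, 1, 0, 0, 0, 0, 0, 2], [0, 2, 0, 0, 1, 2, 2, 0], [1, 2, 0, 0, 0, 2, 0, 0], [1, 2, 0, 0, 2, 0, 0, 0], [2, 2, 0, 2, 2, 1, 0, 0], [0, 1, 2, 0, 1, 2, 0, 0]],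
    [[1, 2, 1, 0, 0, 0, 0, 0], [0, 0, 1, 0, 0, 0, 0, 0], [0, 1, 0, 0, 0, 0, 0, 0], [0, 0, 2, 2, 1, 0, 0, 0], [0, 1, 2, 0, 1, 0, 0, 0], [0, 0, 0, 0, 1, 0, 2, 1], [0, 2, 1, 0, 1, 0, 2, 0], [0, 1, 2, 0, 0, 1, 2, 0]],
    [[2, 2, 2, 1, 0, 0, 0, 0], [1, 0, 2, 1, 0, 0, 0, 0], [1, 1, 0, 2, 1, 0, 0, 0], [2, 0, 1, 1, 1, 0, 0, 0], [2, 1, 1, 2, 1, 0, 0, 0], [0, 0, 0, 0, 1, 2, 1, 0], [1, 2, 2, 1, 0, 0, 1, 0], [2, 1, 1, 2, 0, 0, 1, 2]],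
    [[1, 0, 0, 0, 0, 0, 0, 0], [2, 1, 0, 0, 2, 0, 0, 0], [2, 0, 1, 0, 2, 0, 0, 0], [1, 0, 0, 1, 1, 0, 0, 0], [1, 0, 0, 0, 2, 0, 0, 0], [0, 0, 0, 0, 0, 2, 0, 0], [2, 0, 0, 0, 0, 0, 2, 0], [1, 0, 0, 0, 0, 0, 0, 2]],
    [[1, 1, 0, 0, 1, 0, 0, 0], [0, 0, 0, 0, 2, 0, 0, 0], [0, 2, 1, 0, 2, 0, 0, 0], [0, 0, 0, 1, 0, 0, 0, 0], [0, 2, 0, 0, 0, 0, 0, 0], [0, 0, 0, 0, 0, 2, 0, 0], [0, 1, 0, 0, 2, 0, 2, 0], [0, 2, 0, 0, 1, 0, 0, 2]],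
    [[2, 0, 0, 2, 1, 0, 0, 0], [1, 1, 0, 2, 1, 0, 0, 0], [1, 0, 2, 1, 0, 0, 0, 0], [2, 0, 0, 2, 2, 0, 0, 0], [2, 0, 0, 1, 0, 0, 0, 0], [0, 0, 0, 0, 1, 2, 1, 0], [1, 0, 0, 2, 1, 0, 1, 0], [2, 0, 0, 1, 2, 0, 1, 2]],
    [[1, 2, 1, 0, 0, 0, 0, 0], [0, 0, 1, 0, 0, 0, 0, 0], [0, 1, 0, 0, 0, 0, 0, 0], [0, 0, 2, 2, 1, 0, 0, 0], [0, 1, 2, 0, 1, 0, 0, 0], [0, 0, 0, 0, 1, 0, 0, 2], [0, 2, 1, 0, 1, 0, 2, 0], [0, 1, 2, 0, 1, 2, 0, 0]]]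

/-- A diagram automorphism on the roots. -/
def tau (r : Fin 24) : Fin 24 := ([0, 1, 6, 2, 7, 10, 3, 8, 4, 9, 11, 5, 18, 12, 14, 19, 15, 20, 13, 16, 21, 17, 22, 23] : List (Fin 24)).getD r.val 0

end CfsgLib.Schur.D4Two
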