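import Cfsg.Agent.Lib.Schur.D4Two.Ext
import Cfsg.Agent.Lib.Schur.D4Two.Data
import Cfsg.Agent.Lib.Steinberg.Cover
import Cfsg.Prelude.Def_ChevD4

/-!
The Steinberg presentation of type D4 over the field with two elements as a presentation by the
relations of the tables.
-/

set_option autoImplicit false
set_option linter.unusedSectionVars false

namespace CfsgLib.Schur.D4Two

open Cfsg.Lie
open scoped commutatorElement

universe u

/-- The tables agree with the datum. -/
def linkCheck : Bool :=
  (List.finRange 24).all fun r => decide (chevD4.neg r.val = (tab.neg r).val) &&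
    (List.finRange 24).all fun s => decide (s = r) || decide (s = tab.neg r) ||
      match tab.sum r s with
      | none => decide (chevD4.commTerms r.val s.val = [])
      | some v => decide (chevD4.commTerms r.val s.val = [(v.val, 1, 1, 1)]) ||
          decide (chevD4.commTerms r.val s.val = [(v.val, -1, 1, 1)])

theorem sum_self : ∀ r : Fin 24, tab.sum r r = none ∧ tab.sum r (tab.neg r) = none := by
  decide +kernel

theorem linkCheck_eq : linkCheck = true := by decide +kernel

theorem neg_eq (r : Fin 24) : chevD4.neg r.val = (tab.neg r).val := by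
  have h := linkCheck_eq
  simp only [linkCheck, List.all_eq_true, List.mem_finRange, forall_const, Bool.and_eq_true,
    decide_eq_true_eq] at h
  exact (h r).1

theorem terms_eq {r s : Fin 24} (h1 : s ≠ r) (h2 : s ≠ tab.neg r) :
    match tab.sum r s with
    | none => chevD4.commTerms r.val s.val = []
    | some v => ∃ c : ℤ, (c = 1 ∨ c = -1) ∧ chevD4.commTerms r.val s.val = [(v.val, c, 1, 1)] := by
  have h := linkCheck_eq
  simp only [linkCheck, List.all_eq_true, List.mem_finRange, forall_const, Bool.and_eq_true,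
    decide_eq_true_eq, Bool.or_eq_true] at h
  have h' := ((h r).2 s).resolve_left (by simp [h1, h2])
  cases hv : tab.sum r s with
  | none => simpa [hv] using h'
  | some v =>
    rw [hv] at h'
    simp only [Bool.or_eq_true, decide_eq_true_eq] at h'
    rcases h' with h' | h'
    exacts [⟨1, Or.inl rfl, h'⟩, ⟨-1, Or.inr rfl, h'⟩]

variable {F : Type u} [Field F]

/-- The generators. -/
def gen (F : Type u) [Field F] (r : Fin 24) : chevD4.SteinbergCover F := chevD4.scGen F r.val 1

theorem scGen_add (r : ℕ) (hr : r < 24) (t u : F) :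
    chevD4.scGen F r (t + u) = chevD4.scGen F r t * chevD4.scGen F r u := by
  have h := PresentedGroup.one_of_mem (rels := chevD4.steinbergRelsAB F)
    (Or.inl ⟨r, t, u, hr, rfl⟩)
  rw [map_mul, map_mul, map_inv, mul_inv_eq_one] at h
  exact h.symm

theorem scGen_zero (r : ℕ) (hr : r < 24) : chevD4.scGen F r 0 = 1 := by
  have h := scGen_add (F := F) r hr 0 0
  rw [add_zero] at h
  exact mul_eq_left.mp h.symm

theorem mk_stWord' (L : List (ℕ × F)) :
    PresentedGroup.mk (chevD4.steinbergRelsAB F) (chevD4.stWord L) =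
      (L.map fun p => chevD4.scGen F p.1 p.2).prod := by
  rw [ChevalleyDatum.stWord, map_list_prod, List.map_map]
  rfl

variable (h2 : ∀ t : F, t = 0 ∨ t = 1) (htwo : (1 : F) + 1 = 0)
include h2 htwo

theorem gen_rels : Rels tab (gen F) := by
  have hneg : (-1 : F) = 1 := neg_eq_of_add_eq_zero_left htwo
  have key : ∀ r s : Fin 24, s ≠ r → s ≠ tab.neg r →
      ⁅(gen F s)⁻¹, (gen F r)⁻¹⁆ =
        ((chevD4.commWord F r.val s.val 1 1).map fun p => chevD4.scGen F p.1 p.2).prod := by
    intro r s a b
    have h := PresentedGroup.one_of_mem (rels := chevD4.steinbergRelsAB F)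
      (Or.inr ⟨r.val, s.val, 1, 1, r.2, s.2, fun e => a (Fin.ext e),
        fun e => b (Fin.ext (by rw [e, neg_eq])), rfl⟩)
    rw [map_mul, map_mul, map_mul, map_mul, map_inv, map_inv, map_inv, mul_inv_eq_one,
      mk_stWord'] at h
    rw [← h, commutatorElement_def, inv_inv, inv_inv]
    rfl
  have hsq : ∀ r, gen F r * gen F r = 1 := fun r => by
    rw [gen, ← scGen_add _ r.2, htwo, scGen_zero _ r.2]
  have hinv : ∀ r, (gen F r)⁻¹ = gen F r := fun r => inv_eq_of_mul_eq_one_left (hsq r)
  refine ⟨hsq, fun r s a b c => ?_, fun r s v h => ?_⟩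
  · have h := key r s a b
    have e := terms_eq a b
    rw [c] at e
    simp only [ChevalleyDatum.commWord, e, List.map_nil, List.prod_nil, hinv] at h
    exact (commutatorElement_eq_one_iff_mul_comm.1 h).symm
  · have a : s ≠ r := by
      rintro rfl
      simp [(sum_self s).1] at h
    have b : s ≠ tab.neg r := by
      rintro rfl
      simp [(sum_self r).2] at h
    obtain ⟨c, hc, e⟩ : ∃ c : ℤ, (c = 1 ∨ c = -1) ∧
        chevD4.commTerms r.val s.val = [(v.val, c, 1, 1)] := by
      simpa [h] using terms_eq a b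
    have hv : (c : F) * (-1) ^ 1 * 1 ^ 1 = 1 := by
      rcases hc with rfl | rfl <;> simp [hneg]
    have h' := key r s a b
    simp only [ChevalleyDatum.commWord, e, List.map_cons, List.map_nil, List.prod_cons,
      List.prod_nil, mul_one, hinv] at h'
    rw [← commutatorElement_inv, h', show gen F v = chevD4.scGen F v.val 1 from rfl]
    simp only [hneg, mul_one, pow_one] at hv ⊢
    rw [hv]
    exact hinv v

theorem closure_gen : Subgroup.closure (Set.range (gen F)) = ⊤ := by
  rw [eq_top_iff, ← PresentedGroup.closure_range_of, Subgroup.closure_le]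
  rintro _ ⟨⟨r, t⟩, rfl⟩
  have e : PresentedGroup.of (rels := chevD4.steinbergRelsAB F) (r, t) =
      chevD4.scGen F r.val t := by
    rw [ChevalleyDatum.scGen, ChevalleyDatum.stX, dif_pos r.2]; rfl
  rw [e]
  rcases h2 t with rfl | rfl
  · rw [scGen_zero _ r.2]; exact one_mem _
  · exact Subgroup.subset_closure ⟨r, rfl⟩

/-- The generators present the covering group. -/
theorem gen_presents {H : Type u} [Group H] {Y : Fin 24 → H} (R : Rels tab Y) :
    ∃ f : chevD4.SteinbergCover F →* H, ∀ r, f (gen F r) = Y r := by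
  classical
  have hneg : (-1 : F) = 1 := neg_eq_of_add_eq_zero_left htwo
  let g : Fin chevD4.nroots × F → H := fun p => if p.2 = 0 then 1 else Y p.1
  have hX : ∀ (r : ℕ) (hr : r < 24) (t : F),
      FreeGroup.lift g (chevD4.stX r t) = if t = 0 then 1 else Y ⟨r, hr⟩ := fun r hr t => by
    rw [ChevalleyDatum.stX, dif_pos (show r < chevD4.nroots from hr), FreeGroup.lift_apply_of]
    rfl
  have hrels : ∀ w ∈ chevD4.steinbergRelsAB F, FreeGroup.lift g w = 1 := by
    rintro w (⟨r, t₁, t₂, hr, rfl⟩ | ⟨r, s, t, v, hr, hs, hrs, hn, rfl⟩)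
    · simp only [map_mul, map_inv, hX r hr]
      rcases h2 t₁ with rfl | rfl <;> rcases h2 t₂ with rfl | rfl <;> simp [htwo, R.sq]
    · change r < 24 at hr
      change s < 24 at hs
      have a : (⟨s, hs⟩ : Fin 24) ≠ ⟨r, hr⟩ := fun e => hrs (congrArg Fin.val e)
      have b : (⟨s, hs⟩ : Fin 24) ≠ tab.neg ⟨r, hr⟩ := fun e =>
        hn ((congrArg Fin.val e).trans (neg_eq ⟨r, hr⟩).symm)
      simp only [map_mul, map_inv, hX r hr, hX s hs]
      have hw : FreeGroup.lift g (chevD4.stWord (chevD4.commWord F r s t v)) =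
          if t = 0 ∨ v = 0 then 1 else ⁅Y ⟨r, hr⟩, Y ⟨s, hs⟩⁆ := by
        have e := terms_eq a b
        cases hv : tab.sum ⟨r, hr⟩ ⟨s, hs⟩ with
        | none =>
          rw [hv] at e
          simp only [ChevalleyDatum.commWord, e, List.map_nil, ChevalleyDatum.stWord,
            List.prod_nil, map_one]
          rw [commutatorElement_eq_one_iff_mul_comm.2 (R.com _ _ a b hv), ite_self]
        | some w =>
          rw [hv] at e
          obtain ⟨c, hc, e⟩ := e
          simp only [ChevalleyDatum.commWord, e, List.map_cons, List.map_nil,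
            ChevalleyDatum.stWord, List.prod_cons, List.prod_nil, mul_one, pow_one]
          rw [hX w.val w.2, R.sum _ _ _ hv]
          have hc' : (c : F) = 1 := by rcases hc with rfl | rfl <;> simp [hneg]
          rcases h2 t with rfl | rfl <;> rcases h2 v with rfl | rfl <;> simp [hc', hneg]
      rw [hw]
      rcases h2 t with rfl | rfl <;> rcases h2 v with rfl | rfl <;>
        simp only [one_ne_zero, or_false, or_self, if_true, if_false, inv_one, one_mul,
          mul_one, inv_mul_cancel, or_true]
      rw [mul_inv_eq_one]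
      have e : ⁅Y ⟨r, hr⟩, Y ⟨s, hs⟩⁆⁻¹ = ⁅Y ⟨r, hr⟩, Y ⟨s, hs⟩⁆ := by
        cases hv : tab.sum ⟨r, hr⟩ ⟨s, hs⟩ with
        | none => rw [commutatorElement_eq_one_iff_mul_comm.2 (R.com _ _ a b hv), inv_one]
        | some w => rw [R.sum _ _ _ hv, inv_eq_of_mul_eq_one_left (R.sq w)]
      rw [← e, commutatorElement_inv, commutatorElement_def,
        inv_eq_of_mul_eq_one_left (R.sq ⟨r, hr⟩), inv_eq_of_mul_eq_one_left (R.sq ⟨s, hs⟩)]
  refine ⟨PresentedGroup.toGroup hrels, fun r => ?_⟩
  show FreeGroup.lift g (chevD4.stX r.val 1) = Y r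
  rw [hX r.val r.2, if_neg one_ne_zero]

end CfsgLib.Schur.D4Two
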