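import Mathlib

/-!
Two commuting involutions and the homomorphism from a four group onto the subgroup they generate.
-/

set_option autoImplicit false

namespace CfsgLib.Schur.D4Two

open Subgroup

variable {H : Type*} [Group H] {a b : H}

/-- The homomorphism from the four group given by two commuting involutions. -/
def fourHom (ha : a * a = 1) (hb : b * b = 1) (hab : Commute a b) :
    Multiplicative (ZMod 2 × ZMod 2) →* H :=
  MonoidHom.mk' (fun p => a ^ (Multiplicative.toAdd p).1.val * b ^ (Multiplicative.toAdd p).2.val)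
    fun p q => by
      obtain ⟨i, j⟩ := p
      obtain ⟨k, l⟩ := q
      show a ^ (i + k).val * b ^ (j + l).val = a ^ i.val * b ^ j.val * (a ^ k.val * b ^ l.val)
      rw [ZMod.val_add, ZMod.val_add, ← pow_eq_pow_mod (i.val + k.val) (by rw [pow_two, ha]),
        ← pow_eq_pow_mod (j.val + l.val) (by rw [pow_two, hb]), pow_add, pow_add, mul_assoc,
        mul_assoc, ← mul_assoc (a ^ k.val), (hab.pow_pow k.val j.val).eq, mul_assoc]

theorem fourHom_apply (ha : a * a = 1) (hb : b * b = 1) (hab : Commute a b) (i j : ZMod 2) :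
    fourHom ha hb hab (Multiplicative.ofAdd (i, j)) = a ^ i.val * b ^ j.val := rfl

theorem fourHom_range (ha : a * a = 1) (hb : b * b = 1) (hab : Commute a b) :
    (fourHom ha hb hab).range = closure {a, b} := by
  refine le_antisymm ?_ ((closure_le _).2 ?_)
  · rintro _ ⟨⟨i, j⟩, rfl⟩
    have h1 : a ∈ closure ({a, b} : Set H) := Subgroup.subset_closure (Set.mem_insert a {b})
    have h2 : b ∈ closure ({a, b} : Set H) :=
      Subgroup.subset_closure (Set.mem_insert_of_mem a (Set.mem_singleton b))
    show a ^ i.val * b ^ j.val ∈ closure ({a, b} : Set H)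
    exact mul_mem (pow_mem h1 _) (pow_mem h2 _)
  · rintro x (rfl | rfl)
    · exact ⟨Multiplicative.ofAdd (1, 0), by rw [fourHom_apply]; simp [ZMod.val_one]⟩
    · exact ⟨Multiplicative.ofAdd (0, 1), by rw [fourHom_apply]; simp [ZMod.val_one]⟩

theorem fourHom_injective (ha : a * a = 1) (hb : b * b = 1) (hab : Commute a b) (h1 : a ≠ 1)
    (h2 : b ≠ 1) (h3 : a ≠ b) : Function.Injective (fourHom ha hb hab) := by
  refine (injective_iff_map_eq_one _).2 fun p hp => ?_
  obtain ⟨i, j⟩ := p
  change a ^ i.val * b ^ j.val = 1 at hp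
  obtain rfl | rfl := (by decide : ∀ i : ZMod 2, i = 0 ∨ i = 1) i <;>
    obtain rfl | rfl := (by decide : ∀ i : ZMod 2, i = 0 ∨ i = 1) j
  · rfl
  · exact absurd (by simpa [ZMod.val_one] using hp) h2
  · exact absurd (by simpa [ZMod.val_one] using hp) h1
  · simp only [ZMod.val_one, pow_one] at hp
    exact absurd ((eq_inv_of_mul_eq_one_left hp).trans (inv_eq_of_mul_eq_one_left hb)) h3

end CfsgLib.Schur.D4Two
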