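import Cfsg.Agent.Lib.Schur.D4Two.Upper
import Cfsg.Agent.Lib.Schur.D4Two.Four
import Cfsg.Prelude.Def_KGroupFacts

/-!
Stem extensions of a group presented by a system of involutions as in `Tab`.
-/

set_option autoImplicit false
set_option linter.unusedSectionVars false

namespace CfsgLib.Schur.D4Two

open Subgroup
open scoped commutatorElement

universe u

variable {n : ℕ} {T : Tab n} {G : Type u} [Group G] {x : Fin n → G}

/-- a split central extension by a perfect group is an isomorphism -/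
theorem injective_of_section {E G : Type*} [Group E] [Group G] (p : E →* G) (hc : p.ker ≤ Subgroup.center E)
    (hE : commutator E = ⊤) {s : G →* E} (hs : p.comp s = MonoidHom.id G) : Function.Injective p := by
  have hps : ∀ g, p (s g) = g := DFunLike.congr_fun hs
  have key : commutator E ≤ s.range := by
    rw [commutator_def, Subgroup.commutator_le]
    intro a _ b _
    have d : ∀ x : E, ∃ z ∈ Subgroup.center E, x = s (p x) * z := fun x =>
      ⟨(s (p x))⁻¹ * x, hc (by rw [MonoidHom.mem_ker, map_mul, map_inv, hps, inv_mul_cancel]), by group⟩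
    obtain ⟨z, hz, ea⟩ := d a
    obtain ⟨w, hw, eb⟩ := d b
    refine ⟨⁅p a, p b⁆, ?_⟩
    have hz' := fun g => Subgroup.mem_center_iff.1 hz g
    have hw' := fun g => Subgroup.mem_center_iff.1 hw g
    rw [map_commutatorElement]
    conv_rhs => rw [ea, eb]
    symm
    calc ⁅s (p a) * z, s (p b) * w⁆
        = s (p a) * (z * s (p b)) * (w * z⁻¹) * (s (p a))⁻¹ * w⁻¹ * (s (p b))⁻¹ := by
          simp only [commutatorElement_def]; group
      _ = s (p a) * (s (p b) * z) * (z⁻¹ * w) * (s (p a))⁻¹ * w⁻¹ * (s (p b))⁻¹ := by rw [hz' (s (p b)), hw' z⁻¹]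
      _ = s (p a) * s (p b) * (w * (s (p a))⁻¹) * w⁻¹ * (s (p b))⁻¹ := by group
      _ = ⁅s (p a), s (p b)⁆ := by rw [← hw' (s (p a))⁻¹, commutatorElement_def]; group
  rw [injective_iff_map_eq_one]
  intro x hx
  obtain ⟨g, rfl⟩ := key (hE ▸ Subgroup.mem_top x)
  rw [hps] at hx
  rw [hx, map_one]

/-- `G` is presented by the relations. -/
def Presents (T : Tab n) (x : Fin n → G) : Prop :=
  closure (Set.range x) = ⊤ ∧
    ∀ (H : Type u) [Group H] (Y : Fin n → H), Rels T Y → ∃ f : G →* H, ∀ r, f (x r) = Y r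

theorem normal_of_central {H : Type*} [Group H] {a b : H} (ha : ∀ g, Commute a g)
    (hb : ∀ g, Commute b g) : (closure ({a, b} : Set H)).Normal := by
  refine ⟨fun z hz g => ?_⟩
  have hle : closure ({a, b} : Set H) ≤ center H := by
    rw [closure_le]
    rintro y (rfl | rfl) <;> refine mem_center_iff.2 fun h => ?_
    exacts [(ha h).eq.symm, (hb h).eq.symm]
  rw [mem_center_iff.1 (hle hz) g, mul_inv_cancel_right]
  exact hz

/-- Lifts satisfy the relations in a quotient. -/
theorem rels_mk {H : Type*} [Group H] {N : Subgroup H} [N.Normal] {Y : Fin n → H}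
    (h1 : ∀ r, Y r * Y r ∈ N) (h2 : ∀ r s, T.isCom r s = true → ⁅Y r, Y s⁆ ∈ N)
    (h3 : ∀ r s v, T.sum r s = some v → ⁅Y r, Y s⁆ * (Y v)⁻¹ ∈ N) :
    Rels T fun r => QuotientGroup.mk' N (Y r) where
  sq r := by rw [← map_mul]; exact (QuotientGroup.eq_one_iff _).2 (h1 r)
  com r s a b c := by
    refine commutatorElement_eq_one_iff_mul_comm.1 ?_
    rw [← map_commutatorElement]
    exact (QuotientGroup.eq_one_iff _).2 (h2 r s (isCom_iff.2 ⟨a, b, c⟩))
  sum r s v h := by
    rw [← map_commutatorElement, ← mul_inv_eq_one, ← map_inv, ← map_mul]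
    exact (QuotientGroup.eq_one_iff _).2 (h3 r s v h)

/-- Every stem extension has as kernel an image of the four group. -/
theorem exists_surjective (hperf : commutator G = ⊤) (R : Rels T x) (hP : Presents T x) {C : Cert n}
    (hC : C.Ok T) {E : Type u} [Group E] {σ : E →* G} (hσ : Cfsg.IsStemExtension σ) :
    ∃ π : Multiplicative (ZMod 2 × ZMod 2) →* σ.ker, Function.Surjective π := by
  obtain ⟨hs, hcen, hd⟩ := hσ
  have hc : ∀ z, σ z = 1 → ∀ g : E, Commute z g := fun z hz g =>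
    (mem_center_iff.1 (hcen hz) g).symm
  obtain ⟨c₁, c₂, Y, k1, k2, q1, q2, hY, hsq, hcom, hsum⟩ := exists_lifts hs hc R hC
  set N := closure ({c₁, c₂} : Set E)
  have : N.Normal := normal_of_central (hc _ k1) (hc _ k2)
  have hN : N ≤ σ.ker := (closure_le _).2 (by rintro z (rfl | rfl) <;> assumption)
  let q : E ⧸ N →* G := QuotientGroup.lift N σ hN
  obtain ⟨f, hf⟩ := hP.2 (E ⧸ N) _ (rels_mk (N := N) (fun r => by rw [hsq]; exact one_mem _) hcom hsum)
  have hqf : q.comp f = MonoidHom.id G := MonoidHom.eq_of_eqOn_dense hP.1 (by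
    rintro _ ⟨r, rfl⟩
    show q (f (x r)) = x r
    rw [hf r]
    exact hY r)
  have hE : commutator E = ⊤ := by
    rw [eq_top_iff]
    intro g _
    have hm : σ g ∈ (commutator E).map σ := by
      rw [commutator_def, map_commutator, map_top_of_surjective σ hs, ← commutator_def, hperf]
      exact mem_top _
    obtain ⟨d, hd', e⟩ := hm
    have := mul_mem hd' (hd (show d⁻¹ * g ∈ σ.ker by
      rw [MonoidHom.mem_ker, map_mul, map_inv, e, inv_mul_cancel]))
    rwa [mul_inv_cancel_left] at this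
  have hq : Function.Injective q := by
    refine injective_of_section q ?_ ?_ hqf
    · intro z hz
      obtain ⟨z, rfl⟩ := QuotientGroup.mk'_surjective N z
      refine mem_center_iff.2 fun g => ?_
      obtain ⟨g, rfl⟩ := QuotientGroup.mk'_surjective N g
      rw [← map_mul, ← map_mul, (hc z hz g).eq]
    · rw [commutator_def, ← map_top_of_surjective (QuotientGroup.mk' N)
        (QuotientGroup.mk'_surjective N), ← map_commutator, ← commutator_def, hE]
  refine ⟨(fourHom q1 q2 (hc _ k1 c₂)).codRestrict σ.ker fun p =>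
    hN ((fourHom_range q1 q2 (hc _ k1 c₂)).le ⟨p, rfl⟩), ?_⟩
  rintro ⟨z, hz⟩
  have hzN : z ∈ N := (QuotientGroup.eq_one_iff z).1 (hq (by rw [map_one]; exact hz))
  rw [show N = _ from (fourHom_range q1 q2 (hc _ k1 c₂)).symm] at hzN
  obtain ⟨p, hp⟩ := hzN
  exact ⟨p, Subtype.ext hp⟩

/-- A stem extension with a four group as kernel from a system of lifts. -/
theorem exists_stem [Finite G] [IsSimpleGroup G] (hP : Presents T x)
    {H : Type u} [Group H] [Finite H] (Y : Fin n → H)
    (z₁ z₂ : H) (hz₁ : ∀ g, Commute z₁ g) (hz₂ : ∀ g, Commute z₂ g) (q1 : z₁ * z₁ = 1)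
    (q2 : z₂ * z₂ = 1) (n1 : z₁ ≠ 1) (n2 : z₂ ≠ 1) (n3 : z₁ ≠ z₂)
    (hsq : ∀ r, Y r * Y r = 1)
    (hcom : ∀ r s, T.isCom r s = true → ⁅Y r, Y s⁆ ∈ closure {z₁, z₂})
    (hsum : ∀ r s v, T.sum r s = some v → ⁅Y r, Y s⁆ * (Y v)⁻¹ ∈ closure {z₁, z₂})
    (e1 : ∃ r s, ⁅Y r, Y s⁆ = z₁) (e2 : ∃ r s, ⁅Y r, Y s⁆ = z₂)
    (hne : ∃ r, Y r ∉ closure ({z₁, z₂} : Set H)) :
    ∃ (Γ : Type u) (_ : Group Γ) (_ : Finite Γ) (σ : Γ →* G),
      Cfsg.IsStemExtension σ ∧ Nonempty (σ.ker ≃* Multiplicative (ZMod 2 × ZMod 2)) := by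
  let K := closure (Set.range Y)
  let Y' : Fin n → K := fun r => ⟨Y r, subset_closure ⟨r, rfl⟩⟩
  obtain ⟨a, b, e1⟩ := e1
  obtain ⟨a', b', e2⟩ := e2
  set w₁ : K := ⁅Y' a, Y' b⁆ with hw1
  set w₂ : K := ⁅Y' a', Y' b'⁆ with hw2
  have v1 : (w₁ : H) = z₁ := e1
  have v2 : (w₂ : H) = z₂ := e2
  have cw1 : ∀ g, Commute w₁ g := fun g => Subtype.ext (by push_cast; rw [v1]; exact (hz₁ g).eq)
  have cw2 : ∀ g, Commute w₂ g := fun g => Subtype.ext (by push_cast; rw [v2]; exact (hz₂ g).eq)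
  set N := closure ({w₁, w₂} : Set K)
  have : N.Normal := normal_of_central cw1 cw2
  have hmem : ∀ k : K, (k : H) ∈ closure ({z₁, z₂} : Set H) → k ∈ N := by
    intro k hk
    rw [show ({z₁, z₂} : Set H) = K.subtype '' {w₁, w₂} by
      simp [Set.image_pair, v1, v2], ← MonoidHom.map_closure] at hk
    obtain ⟨k', hk', e⟩ := hk
    exact Subtype.ext e ▸ hk'
  have RY : Rels T fun r => QuotientGroup.mk' N (Y' r) := by
    refine rels_mk (fun r => hmem _ ?_) (fun r s h => hmem _ ?_) (fun r s v h => hmem _ ?_)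
    · show Y r * Y r ∈ _
      rw [hsq]; exact one_mem _
    · exact hcom r s h
    · exact hsum r s v h
  obtain ⟨f, hf⟩ := hP.2 (K ⧸ N) _ RY
  have hfs : Function.Surjective f := by
    rw [← MonoidHom.range_eq_top, eq_top_iff]
    intro y hy
    clear hy
    obtain ⟨⟨k, hk⟩, rfl⟩ := QuotientGroup.mk'_surjective N y
    induction hk using closure_induction with
    | mem k hk =>
      obtain ⟨r, rfl⟩ := hk
      exact ⟨x r, hf r⟩
    | one => exact one_mem f.range
    | mul k l hk hl ih ih' =>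
      rw [show (⟨k * l, mul_mem hk hl⟩ : K) = ⟨k, hk⟩ * ⟨l, hl⟩ from rfl, map_mul]
      exact mul_mem ih ih'
    | inv k hk ih =>
      rw [show (⟨k⁻¹, inv_mem hk⟩ : K) = ⟨k, hk⟩⁻¹ from rfl, map_inv]
      exact inv_mem ih
  have hfi : Function.Injective f := by
    rw [← MonoidHom.ker_eq_bot_iff]
    refine (IsSimpleGroup.eq_bot_or_eq_top_of_normal _ inferInstance).resolve_right fun ht => ?_
    obtain ⟨r, hr⟩ := hne
    refine hr ?_
    have h1 : f (x r) = 1 := MonoidHom.mem_ker.1 (ht ▸ mem_top _)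
    rw [hf r] at h1
    have h2 := mem_map_of_mem K.subtype ((QuotientGroup.eq_one_iff _).1 h1)
    rw [MonoidHom.map_closure, Set.image_pair] at h2
    simpa [v1, v2, Y'] using h2
  let e := MulEquiv.ofBijective f ⟨hfi, hfs⟩
  let σ : K →* G := e.symm.toMonoidHom.comp (QuotientGroup.mk' N)
  have hker : σ.ker = N := by
    ext k
    rw [MonoidHom.mem_ker]
    show e.symm (QuotientGroup.mk' N k) = 1 ↔ _
    rw [map_eq_one_iff _ e.symm.injective]
    exact QuotientGroup.eq_one_iff k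
  refine ⟨K, inferInstance, inferInstance, σ, ⟨?_, ?_, ?_⟩, ?_⟩
  · exact e.symm.surjective.comp (QuotientGroup.mk'_surjective N)
  · rw [hker]
    refine (closure_le _).2 ?_
    rintro z (rfl | rfl) <;> refine mem_center_iff.2 fun g => ?_
    exacts [(cw1 g).eq.symm, (cw2 g).eq.symm]
  · rw [hker, _root_.commutator_def]
    refine (closure_le _).2 ?_
    rintro z (rfl | rfl) <;> exact commutator_mem_commutator (mem_top _) (mem_top _)
  · rw [hker]
    have p1 : w₁ * w₁ = 1 := Subtype.ext (by push_cast; rw [v1, q1])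
    have p2 : w₂ * w₂ = 1 := Subtype.ext (by push_cast; rw [v2, q2])
    have hr := fourHom_range p1 p2 (cw1 w₂)
    have hi : Function.Injective (fourHom p1 p2 (cw1 w₂)) :=
      fourHom_injective p1 p2 (cw1 w₂) (fun h => n1 (by rw [← v1, h]; rfl))
        (fun h => n2 (by rw [← v2, h]; rfl)) (fun h => n3 (by rw [← v1, ← v2, h]))
    exact ⟨((MonoidHom.ofInjective hi).trans (MulEquiv.subgroupCongr hr)).symm⟩

end CfsgLib.Schur.D4Two
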