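import Cfsg.Agent.Lib.Schur.D4Two.Checks

/-!
The units given by the matrices and the signs of their commutators.
-/

set_option autoImplicit false
set_option linter.unusedSectionVars false

namespace CfsgLib.Schur.D4Two

open scoped commutatorElement

theorem mat_sq (r : Fin 24) : toMat (matOf r) * toMat (matOf r) = 1 := by
  have h := sqCheck_eq
  simp only [sqCheck, List.all_eq_true, List.mem_finRange, forall_const, decide_eq_true_eq] at h
  rw [← toMat_mulL, h r, toMat_oneL]

/-- The matrix of a root as a unit. -/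
def matU (r : Fin 24) : (Matrix (Fin 8) (Fin 8) (ZMod 3))ˣ :=
  ⟨toMat (matOf r), toMat (matOf r), mat_sq r, mat_sq r⟩

theorem matU_sq (r : Fin 24) : matU r * matU r = 1 := Units.ext (mat_sq r)

theorem matU_inv (r : Fin 24) : (matU r)⁻¹ = matU r := rfl

theorem eq_or_neg_of_list {A B : List (List ℕ)} (h : A = B ∨ A = negL B) :
    toMat A = toMat B ∨ toMat A = -toMat B := by
  rcases h with h | h
  · exact Or.inl (by rw [h])
  · exact Or.inr (by rw [h, toMat_negL])

theorem comm_sign {r s : Fin 24} (h : tab.isCom r s = true) :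
    (⁅matU r, matU s⁆ = 1 ∨ ⁅matU r, matU s⁆ = -1) ∧
      (⁅matU (tau r), matU (tau s)⁆ = 1 ∨ ⁅matU (tau r), matU (tau s)⁆ = -1) := by
  have key : ∀ a b : Fin 24, comOk a b = true → ⁅matU a, matU b⁆ = 1 ∨ ⁅matU a, matU b⁆ = -1 := by
    intro a b e
    simp only [comOk, Bool.or_eq_true, decide_eq_true_eq] at e
    have e' := eq_or_neg_of_list e
    rw [toMat_mulL, toMat_mulL] at e'
    have e'' : matU a * matU b = matU b * matU a ∨ matU a * matU b = -1 * (matU b * matU a) := by
      rcases e' with e' | e'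
      · exact Or.inl (Units.ext e')
      · exact Or.inr (Units.ext (by simpa [matU] using e'))
    rw [commutatorElement_def, mul_assoc (matU a * matU b), ← mul_inv_rev]
    rcases e'' with e'' | e'' <;> rw [e'']
    · exact Or.inl (mul_inv_cancel _)
    · exact Or.inr (mul_inv_cancel_right _ _)
  have hh := relsCheck_eq
  simp only [relsCheck, List.all_eq_true, List.mem_finRange, forall_const, Bool.and_eq_true,
    Bool.or_eq_true, Bool.not_eq_true'] at hh
  exact ⟨key _ _ ((hh r s).1.resolve_left (by simp [h])),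
    key _ _ ((hh _ _).1.resolve_left (by simp [tau_isCom r s h]))⟩

theorem sum_sign {r s v : Fin 24} (h : tab.sum r s = some v) :
    (⁅matU r, matU s⁆ * (matU v)⁻¹ = 1 ∨ ⁅matU r, matU s⁆ * (matU v)⁻¹ = -1) ∧
      (⁅matU (tau r), matU (tau s)⁆ * (matU (tau v))⁻¹ = 1 ∨
        ⁅matU (tau r), matU (tau s)⁆ * (matU (tau v))⁻¹ = -1) := by
  have key : ∀ a b c : Fin 24, sumOk a b c = true →
      ⁅matU a, matU b⁆ * (matU c)⁻¹ = 1 ∨ ⁅matU a, matU b⁆ * (matU c)⁻¹ = -1 := by
    intro a b c e
    simp only [sumOk, Bool.or_eq_true, decide_eq_true_eq] at e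
    have e' := eq_or_neg_of_list e
    simp only [toMat_mulL] at e'
    have e'' : matU a * matU b = matU c * (matU b * matU a) ∨
        matU a * matU b = -1 * (matU c * (matU b * matU a)) := by
      rcases e' with e' | e'
      · exact Or.inl (Units.ext e')
      · exact Or.inr (Units.ext (by simpa [matU] using e'))
    rw [commutatorElement_def, mul_assoc (matU a * matU b), ← mul_inv_rev]
    rcases e'' with e'' | e'' <;> rw [e'']
    · exact Or.inl (by group)
    · exact Or.inr (by simp [mul_assoc])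
  have hh := relsCheck_eq
  simp only [relsCheck, List.all_eq_true, List.mem_finRange, forall_const, Bool.and_eq_true,
    Bool.or_eq_true, Bool.not_eq_true'] at hh
  have h' := (hh r s).2
  rw [h] at h'
  have h'' := (hh (tau r) (tau s)).2
  rw [tau_sum r s v h] at h''
  exact ⟨key _ _ _ h', key _ _ _ h''⟩

theorem base_comm :
    ⁅matU 14, matU 21⁆ = -1 ∧ ⁅matU (tau 14), matU (tau 21)⁆ = 1 ∧
      ⁅matU 14, matU 17⁆ = 1 ∧ ⁅matU (tau 14), matU (tau 17)⁆ = -1 := by
  have h := baseCheck_eq
  simp only [baseCheck, Bool.and_eq_true, decide_eq_true_eq] at h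
  obtain ⟨⟨⟨a, b⟩, c⟩, d⟩ := h
  have pos : ∀ x y : Fin 24, mulL (matOf x) (matOf y) = mulL (matOf y) (matOf x) →
      ⁅matU x, matU y⁆ = 1 := fun x y e => commutatorElement_eq_one_iff_mul_comm.2 (Units.ext (by
        simpa [toMat_mulL, matU] using congrArg toMat e))
  have neg : ∀ x y : Fin 24, mulL (matOf x) (matOf y) = negL (mulL (matOf y) (matOf x)) →
      ⁅matU x, matU y⁆ = -1 := by
    intro x y e
    have e' : matU x * matU y = -1 * (matU y * matU x) :=
      Units.ext (by simpa [toMat_mulL, toMat_negL, matU] using congrArg toMat e)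
    rw [commutatorElement_def, mul_assoc (matU x * matU y), ← mul_inv_rev, e']
    exact mul_inv_cancel_right _ _
  exact ⟨neg _ _ a, pos _ _ b, pos _ _ c, neg _ _ d⟩

theorem neg_one_ne_one : (-1 : (Matrix (Fin 8) (Fin 8) (ZMod 3))ˣ) ≠ 1 := fun h => by
  have h' := congrArg (fun M : (Matrix (Fin 8) (Fin 8) (ZMod 3))ˣ =>
    (M : Matrix (Fin 8) (Fin 8) (ZMod 3)) 0 0) h
  simp only [Units.val_neg, Units.val_one, Matrix.neg_apply, Matrix.one_apply_eq] at h'
  exact absurd h' (by decide)

end CfsgLib.Schur.D4Two
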