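import Cfsg.Agent.Lib.Schur.D4Two.Cover
import Cfsg.Agent.Lib.Schur.D4Two.MatUnits
import Cfsg.Agent.Lib.ChevClassical.D4
import Cfsg.Agent.Lib.Steinberg.KerTorus
import Cfsg.Agent.Lib.Chev.Simple
import Cfsg.Prelude.Def_KGroupFacts

/-!
The Schur multiplier of the simple orthogonal group in dimension eight of plus type over the field with
two elements.
-/

set_option autoImplicit false
set_option linter.unusedSectionVars false

namespace CfsgLib.Schur.D4Two

open Cfsg.Lie Subgroup
open scoped commutatorElement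

universe u

/-- A group presented by perfect generators is perfect. -/
theorem commutator_eq_top {n : ℕ} {T : Tab n} {G : Type u} [Group G] {x : Fin n → G}
    (R : Rels T x) (hP : Presents T x) {C : Cert n} (hC : C.Ok T) : commutator G = ⊤ := by
  rw [eq_top_iff, ← hP.1, closure_le]
  rintro _ ⟨v, rfl⟩
  rw [← R.sum _ _ _ (hC.dec v)]
  exact commutator_mem_commutator (mem_top _) (mem_top _)

/-- The ambient group of the covering. -/
abbrev Amb : Type u :=
  ULift.{u} ((Matrix (Fin 8) (Fin 8) (ZMod 3))ˣ × (Matrix (Fin 8) (Fin 8) (ZMod 3))ˣ)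

/-- The lifts. -/
def lift2 (r : Fin 24) : Amb.{u} := ULift.up (matU r, matU (tau r))

/-- The first sign. -/
def sgn1 : Amb.{u} := ULift.up (-1, 1)

/-- The second sign. -/
def sgn2 : Amb.{u} := ULift.up (1, -1)

theorem sgn_mem {a b : (Matrix (Fin 8) (Fin 8) (ZMod 3))ˣ} (ha : a = 1 ∨ a = -1) (hb : b = 1 ∨ b = -1) :
    (ULift.up (a, b) : Amb.{u}) ∈ Subgroup.closure ({sgn1, sgn2} : Set Amb.{u}) := by
  have h1 : sgn1.{u} ∈ Subgroup.closure ({sgn1, sgn2} : Set Amb.{u}) :=
    Subgroup.subset_closure (Set.mem_insert _ _)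
  have h2 : sgn2.{u} ∈ Subgroup.closure ({sgn1, sgn2} : Set Amb.{u}) :=
    Subgroup.subset_closure (Set.mem_insert_of_mem _ (Set.mem_singleton _))
  rcases ha with rfl | rfl <;> rcases hb with rfl | rfl
  · exact one_mem _
  · exact h2
  · exact h1
  · have e : (ULift.up (-1, -1) : Amb.{u}) = sgn1 * sgn2 :=
      ULift.ext _ _ (Prod.ext (mul_one _).symm (one_mul _).symm)
    rw [e]
    exact mul_mem h1 h2

theorem comm_eq (r s : Fin 24) :
    ⁅lift2.{u} r, lift2 s⁆ = ULift.up (⁅matU r, matU s⁆, ⁅matU (tau r), matU (tau s)⁆) := rfl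

theorem sgn_central {a b : (Matrix (Fin 8) (Fin 8) (ZMod 3))ˣ} (ha : ∀ g, Commute a g)
    (hb : ∀ g, Commute b g) (g : Amb.{u}) : Commute (ULift.up (a, b) : Amb.{u}) g :=
  ULift.ext _ _ (Prod.ext (ha g.down.1).eq (hb g.down.2).eq)

/-- The system of a group isomorphic to the covering group. -/
theorem hasMultiplier {F : Type u} [Field F] (h2 : ∀ t : F, t = 0 ∨ t = 1) (htwo : (1 : F) + 1 = 0)
    {G : Type u} [Group G] [Finite G] [IsSimpleGroup G] (ψ : chevD4.SteinbergCover F ≃* G) :
    Cfsg.HasSchurMultiplier G (Multiplicative (ZMod 2 × ZMod 2)) := by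
  have R0 := gen_rels h2 htwo
  let x : Fin 24 → G := fun r => ψ (gen F r)
  have R : Rels tab x :=
    ⟨fun r => by simp only [x]; rw [← map_mul, R0.sq, map_one],
      fun r s a b c => by simp only [x]; rw [← map_mul, R0.com r s a b c, map_mul],
      fun r s v h => by
        simp only [x]
        rw [← R0.sum r s v h, map_commutatorElement]⟩
  have hP : Presents tab x := by
    refine ⟨?_, fun H _ Y RY => ?_⟩
    · rw [show Set.range x = ψ.toMonoidHom '' Set.range (gen F) by rw [← Set.range_comp]; rfl,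
        ← MonoidHom.map_closure, closure_gen h2 htwo, Subgroup.map_top_of_surjective]
      exact ψ.surjective
    · obtain ⟨f, hf⟩ := gen_presents h2 htwo RY
      exact ⟨f.comp ψ.symm.toMonoidHom, fun r => by simp [x, hf]⟩
  refine ⟨?_, fun E _ _ σ hσ => exists_surjective (commutator_eq_top R hP cert_ok) R hP cert_ok hσ⟩
  have hsq : ∀ r, lift2.{u} r * lift2 r = 1 := fun r =>
    ULift.ext _ _ (Prod.ext (matU_sq r) (matU_sq (tau r)))
  obtain ⟨b1, b2, b3, b4⟩ := base_comm
  have c1 : ∀ g, Commute (1 : (Matrix (Fin 8) (Fin 8) (ZMod 3))ˣ) g := Commute.one_left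
  have c2 : ∀ g, Commute (-1 : (Matrix (Fin 8) (Fin 8) (ZMod 3))ˣ) g := Commute.neg_one_left
  have e1 : ⁅lift2.{u} 14, lift2 21⁆ = sgn1 := by rw [comm_eq, b1, b2]; rfl
  have e2 : ⁅lift2.{u} 14, lift2 17⁆ = sgn2 := by rw [comm_eq, b3, b4]; rfl
  have n1 : sgn1.{u} ≠ 1 := fun h =>
    neg_one_ne_one (congrArg Prod.fst (congrArg ULift.down h))
  refine exists_stem hP lift2 sgn1 sgn2 (sgn_central c2 c1) (sgn_central c1 c2)
    (ULift.ext _ _ (Prod.ext (by simp [sgn1]) (by simp [sgn1])))
    (ULift.ext _ _ (Prod.ext (by simp [sgn2]) (by simp [sgn2]))) n1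
    (fun h => neg_one_ne_one (congrArg Prod.snd (congrArg ULift.down h)))
    (fun h => neg_one_ne_one (congrArg Prod.fst (congrArg ULift.down h)))
    hsq (fun r s h => ?_) (fun r s v h => ?_) ⟨14, 21, e1⟩ ⟨14, 17, e2⟩ ⟨14, fun h => n1 ?_⟩
  · rw [comm_eq]
    exact sgn_mem (comm_sign h).1 (comm_sign h).2
  · rw [comm_eq]
    exact sgn_mem (sum_sign h).1 (sum_sign h).2
  · have hle : Subgroup.closure ({sgn1, sgn2} : Set Amb.{u}) ≤ center Amb.{u} := by
      rw [closure_le]
      rintro y (rfl | rfl) <;> refine mem_center_iff.2 fun g => ?_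
      exacts [(sgn_central c2 c1 g).eq.symm, (sgn_central c1 c2 g).eq.symm]
    rw [← e1]
    exact commutatorElement_eq_one_iff_mul_comm.2 (mem_center_iff.1 (hle h) _).symm

/-- The multiplier of the orthogonal group. -/
theorem hasMultiplier_pOmega {F : Type u} [Field F] [Fintype F] (hF : Fintype.card F = 2) :
    Cfsg.HasSchurMultiplier (Cfsg.POmega F (Cfsg.quadFormPlus 4 F))
      (Multiplicative (ZMod 2 × ZMod 2)) := by
  classical
  have h2 : ∀ t : F, t = 0 ∨ t = 1 := by
    intro t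
    by_contra h
    push Not at h
    have h3 : ({0, 1, t} : Finset F).card = 3 := by
      simp [h.1.symm, h.2.symm]
    have := Finset.card_le_univ ({0, 1, t} : Finset F)
    omega
  have htwo : (1 : F) + 1 = 0 := by
    rcases h2 ((1 : F) + 1) with h | h
    · exact h
    · simp at h
  have hD : chevD4 ∈ [chevG2, chevB2, chevD4, chevF4, chevE6, chevE7, chevE8] := by simp
  obtain ⟨T, S⟩ := CfsgLib.Steinberg.exists_setup hD
  obtain ⟨θ, hs, -, hθ⟩ := (CfsgLib.Steinberg.coverSys F S).exists_toGroup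
    (CfsgLib.Steinberg.cover_top F)
  have hi : Function.Injective θ := by
    refine (injective_iff_map_eq_one θ).2 fun g hg => ?_
    have hm := (CfsgLib.Steinberg.coverSys F S).ker_le_hBar (CfsgLib.Steinberg.cover_top F)
      (g := g) (by rw [← hθ g, hg]; rfl)
    have hb : CfsgLib.Steinberg.hBar chevD4 (chevD4.scGen F) ≤ ⊥ := by
      rw [CfsgLib.Steinberg.hBar, closure_le]
      rintro y ⟨i, t, rfl⟩
      rw [show (t : F) = 1 from (h2 t).resolve_left t.ne_zero]
      exact Subgroup.mem_bot.2 ((CfsgLib.Steinberg.coverSys F S).hE_one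
        (CfsgLib.Chev.simple_lt S.checked i.2))
    exact Subgroup.mem_bot.1 (hb hm)
  let ψ0 : chevD4.SteinbergCover F ≃* ↥(chevD4.group F) := MulEquiv.ofBijective θ ⟨hi, hs⟩
  obtain ⟨e⟩ := CfsgLib.ChevClassical.D4.exists_equiv F
  have hperf : commutator ↥(chevD4.group F) = ⊤ := by
    rw [eq_top_iff, ← (map_top_of_surjective ψ0.toMonoidHom ψ0.surjective),
      ← closure_gen h2 htwo, MonoidHom.map_closure, closure_le]
    rintro _ ⟨_, ⟨v, rfl⟩, rfl⟩
    rw [← (gen_rels h2 htwo).sum _ _ _ (cert_ok.dec v), map_commutatorElement]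
    exact commutator_mem_commutator (mem_top _) (mem_top _)
  have := (CfsgLib.Chev.isSimple_group_of_perfect (F := F) hD hperf).1
  have : IsSimpleGroup (Cfsg.POmega F (Cfsg.quadFormPlus 4 F)) := by
    have := e.toEquiv.nontrivial_congr.1 inferInstance
    exact IsSimpleGroup.isSimpleGroup_of_surjective e.toMonoidHom e.surjective
  have : Finite (Cfsg.POmega F (Cfsg.quadFormPlus 4 F)) := Finite.of_equiv _ e.toEquiv
  exact hasMultiplier h2 htwo (ψ0.trans e)

end CfsgLib.Schur.D4Two
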