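import Cfsg.Agent.Lib.Schur.D4Two.Tab
import Cfsg.Agent.Lib.Schur.D4Two.Data

/-!
The checks on the certificate and on the matrices, and the pairs of units they give.
-/

set_option autoImplicit false
set_option linter.unusedSectionVars false

namespace CfsgLib.Schur.D4Two

open scoped commutatorElement

/-- An entry. -/
def getE (A : List (List ℕ)) (i j : ℕ) : ℕ := (A.getD i []).getD j 0

/-- The product modulo 3. -/
def mulL (A B : List (List ℕ)) : List (List ℕ) :=
  List.ofFn fun i : Fin 8 => List.ofFn fun j : Fin 8 =>
    ((List.ofFn fun k : Fin 8 => getE A i k * getE B k j).sum) % 3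

/-- The opposite modulo 3. -/
def negL (A : List (List ℕ)) : List (List ℕ) :=
  List.ofFn fun i : Fin 8 => List.ofFn fun j : Fin 8 => (3 - getE A i j % 3) % 3

/-- The identity. -/
def oneL : List (List ℕ) :=
  List.ofFn fun i : Fin 8 => List.ofFn fun j : Fin 8 => if i = j then 1 else 0

/-- The matrix. -/
def toMat (A : List (List ℕ)) : Matrix (Fin 8) (Fin 8) (ZMod 3) := fun i j => (getE A i j : ZMod 3)

theorem getE_ofFn (f : Fin 8 → Fin 8 → ℕ) (i j : Fin 8) :
    getE (List.ofFn fun i => List.ofFn fun j => f i j) i j = f i j := by
  have e : (List.ofFn fun i => List.ofFn fun j => f i j).getD i.val [] = List.ofFn (f i) := by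
    rw [List.getD_eq_getElem _ _ (by rw [List.length_ofFn]; exact i.2), List.getElem_ofFn]
  rw [getE, e, List.getD_eq_getElem _ _ (by rw [List.length_ofFn]; exact j.2), List.getElem_ofFn]

theorem toMat_mulL (A B : List (List ℕ)) : toMat (mulL A B) = toMat A * toMat B := by
  ext i j
  simp only [toMat, mulL, getE_ofFn, Matrix.mul_apply, ZMod.natCast_mod, List.sum_ofFn,
    Nat.cast_sum, Nat.cast_mul]

theorem toMat_negL (A : List (List ℕ)) : toMat (negL A) = -toMat A := by
  ext i j
  simp only [toMat, negL, getE_ofFn, ZMod.natCast_mod, Matrix.neg_apply]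
  rw [Nat.cast_sub (Nat.le_of_lt (Nat.mod_lt _ (by norm_num))), ZMod.natCast_mod, ZMod.natCast_self,
    zero_sub]

theorem toMat_oneL : toMat oneL = 1 := by
  ext i j
  simp only [toMat, oneL, getE_ofFn, Matrix.one_apply, apply_ite Nat.cast, Nat.cast_one,
    Nat.cast_zero]

/-- The matrix of a root. -/
def matOf (r : Fin 24) : List (List ℕ) := mats.getD r.val []

/-- The matrices square to the identity. -/
def sqCheck : Bool := (List.finRange 24).all fun r => decide (mulL (matOf r) (matOf r) = oneL)

/-- The lifts of two roots commute up to sign. -/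
def comOk (r s : Fin 24) : Bool :=
  let P := mulL (matOf r) (matOf s)
  let Q := mulL (matOf s) (matOf r)
  decide (P = Q) || decide (P = negL Q)

/-- The commutator of two lifts is the lift of `v` up to sign. -/
def sumOk (r s v : Fin 24) : Bool :=
  let P := mulL (matOf r) (matOf s)
  let Q := mulL (matOf v) (mulL (matOf s) (matOf r))
  decide (P = Q) || decide (P = negL Q)

/-- All relations hold up to sign. -/
def relsCheck : Bool :=
  (List.finRange 24).all fun r => (List.finRange 24).all fun s =>
    (!tab.isCom r s || comOk r s) &&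
      match tab.sum r s with
      | none => true
      | some v => sumOk r s v

/-- The two central elements are commutators. -/
def baseCheck : Bool :=
  decide (mulL (matOf 14) (matOf 21) = negL (mulL (matOf 21) (matOf 14))) &&
    decide (mulL (matOf (tau 14)) (matOf (tau 21)) = mulL (matOf (tau 21)) (matOf (tau 14))) &&
    decide (mulL (matOf 14) (matOf 17) = mulL (matOf 17) (matOf 14)) &&
    decide (mulL (matOf (tau 14)) (matOf (tau 17)) = negL (mulL (matOf (tau 17)) (matOf (tau 14))))

end CfsgLib.Schur.D4Two
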