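import Mathlib

/-!
Tables for a system of involutions indexed by the roots of a simply laced root system: commuting pairs,
pairs whose commutator is again a root element, and the certificates used to bound central extensions.
-/

set_option autoImplicit false

namespace CfsgLib.Schur.D4Two

open scoped commutatorElement

/-- The tables. -/
structure Tab (n : ℕ) where
  /-- The sum of two roots. -/
  sum : Fin n → Fin n → Option (Fin n)
  /-- The negative of a root. -/
  neg : Fin n → Fin n

/-- The relations of the root elements over the field with two elements. -/
structure Rels {n : ℕ} (T : Tab n) {G : Type*} [Group G] (x : Fin n → G) : Prop where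
  sq : ∀ r, x r * x r = 1
  com : ∀ r s, s ≠ r → s ≠ T.neg r → T.sum r s = none → x r * x s = x s * x r
  sum : ∀ r s v, T.sum r s = some v → ⁅x r, x s⁆ = x v

variable {n : ℕ} (T : Tab n)

/-- Distinct roots with commuting root elements. -/
def Tab.isCom (r s : Fin n) : Bool :=
  decide (s ≠ r) && decide (s ≠ T.neg r) && decide (T.sum r s = none)

/-- A commuting pair whose lifts commute: the first root is a sum of two roots commuting with the
second. -/
def Tab.near (r s : Fin n) : Bool :=
  T.isCom r s && (List.finRange n).any fun p =>
    match T.sum r (T.neg p) with
    | some q => decide (T.sum p q = some r) && T.isCom s p && T.isCom s q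
    | none => false

/-- The image of `r` under conjugation by the element `x u * x (-u) * x u`, in the cases covered. -/
def Tab.img (u r : Fin n) : Option (Fin n) :=
  if T.isCom u r && T.isCom (T.neg u) r then some r
  else match T.sum u r with
    | some v => if T.isCom (T.neg u) r && decide (T.sum (T.neg u) v = some r) && T.isCom u v &&
        T.isCom r v then some v else none
    | none => match T.sum (T.neg u) r with
      | some v => if T.isCom (T.neg u) v && decide (T.sum u v = some r) && T.isCom u r &&
          T.isCom v r then some v else none
      | none => none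

/-- The two pairs are equal up to order. -/
def sameU (a b : Fin n × Fin n) : Bool :=
  decide (a = b) || decide (a = (b.2, b.1))

/-- Five roots `a, m, b, u = a + m, v = m + b` giving two decompositions `u + b = a + v` of `θ`. -/
structure Path (n : ℕ) where
  a : Fin n
  m : Fin n
  b : Fin n
  u : Fin n
  v : Fin n

/-- The conditions on a path. -/
def Path.ok (p : Path n) (θ : Fin n) : Bool :=
  decide (T.sum p.a p.m = some p.u) && decide (T.sum p.m p.b = some p.v) &&
    decide (T.sum p.u p.b = some θ) && decide (T.sum p.a p.v = some θ) &&
    T.isCom p.a p.b && T.near θ p.v && T.isCom p.u p.v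

/-- Adding commuting pairs mapped to known ones by a covered conjugation. -/
def run : List (Fin n × Fin n × Fin n) → List (Fin n × Fin n) → Option (List (Fin n × Fin n))
  | [], known => some known
  | (r, t, u) :: l, known =>
    match T.img u r, T.img u t with
    | some r', some t' => if known.any (sameU (r', t')) then run l ((r, t) :: known) else none
    | _, _ => none

/-- A certificate. -/
structure Cert (n : ℕ) where
  dp : List (Fin n × Fin n)
  th : Fin n
  p1 : Path n
  p2 : Path n
  p3 : Path n
  known : List (Fin n × Fin n)
  steps : List (Fin n × Fin n × Fin n)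
  paths : List (Path n)

variable (C : Cert n)

/-- The chosen decomposition of a root. -/
def Cert.dec (v : Fin n) : Fin n × Fin n := C.dp.getD v.val (v, v)

/-- The base pairs. -/
def Cert.base : List (Fin n × Fin n) := [(C.p1.u, C.p1.v), (C.p2.u, C.p2.v), (C.p3.u, C.p3.v)]

/-- The checks. -/
structure Cert.Ok : Prop where
  symm : ∀ r s v, T.sum r s = some v → T.sum s r = some v ∧ T.near v s = true
  dec : ∀ v, T.sum (C.dec v).1 (C.dec v).2 = some v
  p1 : C.p1.ok T C.th = true
  p2 : C.p2.ok T C.th = true
  p3 : C.p3.ok T C.th = true
  m12 : sameU (C.p2.u, C.p2.b) (C.p1.a, C.p1.v) = true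
  m31 : sameU (C.p3.u, C.p3.b) (C.p1.u, C.p1.b) = true
  m32 : sameU (C.p3.a, C.p3.v) (C.p2.a, C.p2.v) = true
  run_eq : run T C.steps C.base = some C.known
  far : ∀ r s, T.isCom r s = true →
    (T.near r s || T.near s r || C.known.any (sameU (r, s))) = true
  paths : ∀ r s v, T.sum r s = some v → (sameU (r, s) (C.dec v) ||
    C.paths.any (fun p => p.ok T v && sameU (p.u, p.b) (C.dec v) && sameU (p.a, p.v) (r, s))) = true

end CfsgLib.Schur.D4Two
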