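import Cfsg.Agent.Lib.Schur.D4Two.Tab
import Cfsg.Prelude.Def_KGroupFacts

/-!
Central extensions of a group with a system of involutions as in `Tab`: after dividing by two commutators
of lifts the lifts satisfy the relations.
-/

set_option autoImplicit false
set_option linter.unusedSectionVars false

namespace CfsgLib.Schur.D4Two

open Subgroup
open scoped commutatorElement

universe u

variable {n : ℕ} {T : Tab n} {G E : Type u} [Group G] [Group E] {σ : E →* G}

/-- Commutators do not change when the entries are multiplied by central elements. -/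
theorem comm_congr (hc : ∀ z, σ z = 1 → ∀ g : E, Commute z g) {a a' b b' : E} (ha : σ a = σ a')
    (hb : σ b = σ b') : ⁅a, b⁆ = ⁅a', b'⁆ := by
  obtain ⟨z, hz, rfl⟩ : ∃ z, (∀ g, Commute z g) ∧ a = a' * z :=
    ⟨a'⁻¹ * a, hc _ (by rw [map_mul, map_inv, ha, inv_mul_cancel]), by group⟩
  obtain ⟨w, hw, rfl⟩ : ∃ w, (∀ g, Commute w g) ∧ b = b' * w :=
    ⟨b'⁻¹ * b, hc _ (by rw [map_mul, map_inv, hb, inv_mul_cancel]), by group⟩
  calc ⁅a' * z, b' * w⁆ = a' * (z * b') * (w * z⁻¹) * a'⁻¹ * w⁻¹ * b'⁻¹ := by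
        simp only [commutatorElement_def]; group
    _ = a' * (b' * z) * (z⁻¹ * w) * a'⁻¹ * w⁻¹ * b'⁻¹ := by rw [(hz b').eq, (hw z⁻¹).eq]
    _ = a' * b' * (w * a'⁻¹) * w⁻¹ * b'⁻¹ := by group
    _ = ⁅a', b'⁆ := by rw [(hw a'⁻¹).eq]; simp only [commutatorElement_def]; group

/-- An element commuting modulo the centre with both entries centralises their commutator. -/
theorem commute_comm (hc : ∀ z, σ z = 1 → ∀ g : E, Commute z g) {g a b : E}
    (ha : σ g * σ a = σ a * σ g) (hb : σ g * σ b = σ b * σ g) : Commute g ⁅a, b⁆ := by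
  have h : g * ⁅a, b⁆ * g⁻¹ = ⁅a, b⁆ := by
    rw [conjugate_commutatorElement]
    exact comm_congr hc (by rw [map_mul, map_mul, map_inv, ha, mul_inv_cancel_right])
      (by rw [map_mul, map_mul, map_inv, hb, mul_inv_cancel_right])
  calc g * ⁅a, b⁆ = g * ⁅a, b⁆ * g⁻¹ * g := by group
    _ = ⁅a, b⁆ * g := by rw [h]

theorem isCom_iff {r s : Fin n} :
    T.isCom r s = true ↔ s ≠ r ∧ s ≠ T.neg r ∧ T.sum r s = none := by
  simp [Tab.isCom, and_assoc]

namespace Rels

variable {x : Fin n → G} (R : Rels T x)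
include R

theorem comm {r s : Fin n} (h : T.isCom r s = true) : x r * x s = x s * x r := by
  obtain ⟨h1, h2, h3⟩ := isCom_iff.1 h
  exact R.com r s h1 h2 h3

theorem inv_eq (r : Fin n) : (x r)⁻¹ = x r := inv_eq_of_mul_eq_one_left (R.sq r)

theorem conj_sum {a b v : Fin n} (h : T.sum a b = some v) : x a * x b * x a = x v * x b := by
  have e := R.sum a b v h
  rw [commutatorElement_def, R.inv_eq, R.inv_eq] at e
  rw [← e, mul_assoc _ (x b) (x b), R.sq, mul_one]

theorem conj_img {u r r' : Fin n} (h : T.img u r = some r') :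
    x u * x (T.neg u) * x u * x r * (x u * x (T.neg u) * x u)⁻¹ = x r' := by
  have main : ∀ a w v : Fin n, T.isCom (T.neg u) a = true → T.sum u a = some v →
      T.sum (T.neg u) v = some a → T.isCom u v = true → T.isCom a v = true → w = T.neg u →
      x u * x w * x u * x a * (x u * x w * x u)⁻¹ = x v := by
    intro a w v h1 h2 h3 h4 h5 hw
    subst hw
    calc x u * x (T.neg u) * x u * x a * (x u * x (T.neg u) * x u)⁻¹
        = x u * x (T.neg u) * (x u * x a * x u) * x (T.neg u) * x u := by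
          simp only [mul_inv_rev, R.inv_eq, mul_assoc]
      _ = x u * (x (T.neg u) * x v * (x a * x (T.neg u))) * x u := by
          rw [R.conj_sum h2]; simp only [mul_assoc]
      _ = x u * (x (T.neg u) * x v * x (T.neg u) * x a) * x u := by
          rw [← R.comm h1]; simp only [mul_assoc]
      _ = x u * (x a * x v * x a) * x u := by rw [R.conj_sum h3]
      _ = x u * x v * x u := by rw [R.comm h5, mul_assoc _ (x a) (x a), R.sq, mul_one]
      _ = x v := by rw [R.comm h4, mul_assoc, R.sq, mul_one]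
  unfold Tab.img at h
  split at h
  · rename_i hh
    rw [Bool.and_eq_true] at hh
    cases h
    have e1 : Commute (x u) (x r) := R.comm hh.1
    have e2 : Commute (x (T.neg u)) (x r) := R.comm hh.2
    rw [((e1.mul_left e2).mul_left e1).eq, mul_inv_cancel_right]
  · split at h
    · rename_i v hv
      split at h
      · rename_i hh
        cases h
        simp only [Bool.and_eq_true, decide_eq_true_eq] at hh
        exact main r _ r' hh.1.1.1 hv hh.1.1.2 hh.1.2 hh.2 rfl
      · cases h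
    · split at h
      · rename_i v hv
        split at h
        · rename_i hh
          cases h
          simp only [Bool.and_eq_true, decide_eq_true_eq] at hh
          have e := main r' _ r hh.1.1.1 hh.1.1.2 hv hh.1.2 hh.2 rfl
          set g := x u * x (T.neg u) * x u with hgdef
          have hg : g⁻¹ = g := by
            simp only [hgdef, mul_inv_rev, R.inv_eq, mul_assoc]
          have hgg : g * g = 1 := by
            nth_rw 1 [← hg]; exact inv_mul_cancel _
          calc g * x r * g⁻¹ = g * (g * x r' * g⁻¹) * g⁻¹ := by rw [e]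
            _ = (g * g) * x r' * (g * g)⁻¹ := by group
            _ = x r' := by rw [hgg, inv_one, one_mul, mul_one]
        · cases h
      · cases h

end Rels

variable {x : Fin n → G} {A : Fin n → E}

section lifts

variable (hc : ∀ z, σ z = 1 → ∀ g : E, Commute z g) (hA : ∀ r, σ (A r) = x r) (R : Rels T x)
include hc hA R

theorem lift_sum {p q v : Fin n} (h : T.sum p q = some v) : σ ⁅A p, A q⁆ = x v := by
  rw [map_commutatorElement, hA, hA, R.sum p q v h]

theorem near_commute {r s : Fin n} (h : T.near r s = true) {a b : E} (ha : σ a = x r)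
    (hb : σ b = x s) : Commute a b := by
  simp only [Tab.near, Bool.and_eq_true, List.any_eq_true] at h
  obtain ⟨-, p, -, hp⟩ := h
  split at hp
  · rename_i q _
    simp only [Bool.and_eq_true, decide_eq_true_eq] at hp
    have h1 : Commute b ⁅A p, A q⁆ := commute_comm hc (by rw [hb, hA]; exact R.comm hp.1.2)
      (by rw [hb, hA]; exact R.comm hp.2)
    have h2 : ∀ g, Commute (⁅A p, A q⁆⁻¹ * a) g := hc _ (by
      rw [map_mul, map_inv, lift_sum hc hA R hp.1.1, ha, inv_mul_cancel])
    have h3 := h1.mul_right (h2 b).symm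
    rw [mul_inv_cancel_left] at h3
    exact h3.symm
  · cases hp

theorem pair_sq {p q v : Fin n} (h : T.sum p q = some v) (hn : T.near v q = true) :
    ⁅A p, A q⁆ * ⁅A p, A q⁆ = 1 := by
  have hk : Commute (A q) ⁅A p, A q⁆ := (near_commute hc hA R hn (lift_sum hc hA R h) (hA q)).symm
  have hq2 : σ (A q * A q) = σ 1 := by rw [map_mul, hA, R.sq, map_one]
  calc ⁅A p, A q⁆ * ⁅A p, A q⁆ = ⁅A p, A q⁆ * (A q * ⁅A p, A q⁆ * (A q)⁻¹) := by
        rw [hk.eq, mul_inv_cancel_right]
    _ = ⁅A p, A q * A q⁆ := by simp only [commutatorElement_def]; group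
    _ = 1 := by rw [comm_congr hc rfl hq2, commutatorElement_one_right]

theorem com_sq {r t : Fin n} (h : T.isCom r t = true) : ⁅A r, A t⁆ * ⁅A r, A t⁆ = 1 := by
  have hk : ∀ g, Commute ⁅A r, A t⁆ g := hc _ (by
    rw [map_commutatorElement, hA, hA, commutatorElement_eq_one_iff_mul_comm]
    exact R.comm h)
  have hq2 : σ (A t * A t) = σ 1 := by rw [map_mul, hA, R.sq, map_one]
  calc ⁅A r, A t⁆ * ⁅A r, A t⁆ = ⁅A r, A t⁆ * (A t * ⁅A r, A t⁆ * (A t)⁻¹) := by
        rw [← (hk (A t)).eq, mul_inv_cancel_right]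
    _ = ⁅A r, A t * A t⁆ := by simp only [commutatorElement_def]; group
    _ = 1 := by rw [comm_congr hc rfl hq2, commutatorElement_one_right]

theorem img_comm {r t u r' t' : Fin n} (hr : T.img u r = some r') (ht : T.img u t = some t')
    (h : ∀ g, Commute ⁅A r, A t⁆ g) : ⁅A r', A t'⁆ = ⁅A r, A t⁆ := by
  set g := A u * A (T.neg u) * A u
  have hg : σ g = x u * x (T.neg u) * x u := by simp only [g, map_mul, hA]
  calc ⁅A r', A t'⁆ = ⁅g * A r * g⁻¹, g * A t * g⁻¹⁆ := comm_congr hc
        (by rw [map_mul, map_mul, map_inv, hg, hA, hA, R.conj_img hr])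
        (by rw [map_mul, map_mul, map_inv, hg, hA, hA, R.conj_img ht])
    _ = g * ⁅A r, A t⁆ * g⁻¹ := (conjugate_commutatorElement _ _ g).symm
    _ = ⁅A r, A t⁆ := by rw [← (h g).eq, mul_inv_cancel_right]

theorem path_eq {θ : Fin n} {p : Path n} (h : p.ok T θ = true) :
    ⁅A p.a, A p.v⁆ = ⁅A p.u, A p.v⁆ * ⁅A p.u, A p.b⁆ := by
  simp only [Path.ok, Bool.and_eq_true, decide_eq_true_eq] at h
  obtain ⟨⟨⟨⟨⟨⟨h1, h2⟩, h3⟩, h4⟩, h5⟩, h6⟩, -⟩ := h
  set U := A p.u
  set V := ⁅A p.m, A p.b⁆
  have hU : σ ⁅A p.a, A p.m⁆ = σ U := by rw [lift_sum hc hA R h1, hA]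
  have hV : σ V = σ (A p.v) := by rw [lift_sum hc hA R h2, hA]
  have hk : Commute ⁅U, A p.b⁆ V :=
    near_commute hc hA R h6 (lift_sum hc hA R h3) (lift_sum hc hA R h2)
  have eM : σ (A p.a * A p.m * (A p.a)⁻¹) = σ (U * A p.m) := by
    rw [show A p.a * A p.m * (A p.a)⁻¹ = ⁅A p.a, A p.m⁆ * A p.m by
      simp only [commutatorElement_def]; group, map_mul, map_mul, hU]
  have eB : σ (A p.a * A p.b * (A p.a)⁻¹) = σ (A p.b) := by
    rw [map_mul, map_mul, map_inv, hA, hA, R.comm h5, mul_inv_cancel_right]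
  have e : ⁅A p.a, V⁆ * V = ⁅U, V⁆ * ⁅U, A p.b⁆ * V :=
    calc ⁅A p.a, V⁆ * V = A p.a * V * (A p.a)⁻¹ := by simp only [commutatorElement_def]; group
      _ = ⁅U * A p.m, A p.b⁆ := by
          rw [show A p.a * V * (A p.a)⁻¹ = _ from conjugate_commutatorElement _ _ (A p.a)]
          exact comm_congr hc eM eB
      _ = ⁅U, V⁆ * (V * ⁅U, A p.b⁆) := by simp only [V, commutatorElement_def]; group
      _ = ⁅U, V⁆ * ⁅U, A p.b⁆ * V := by rw [← hk.eq]; group
  rw [comm_congr hc (a := U) rfl hV.symm, comm_congr hc (a := A p.a) rfl hV.symm]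
  exact mul_right_cancel e

variable {C : Cert n} (hC : C.Ok T)
include hC

theorem pair_flip {p q v : Fin n} (h : T.sum p q = some v) : ⁅A q, A p⁆ = ⁅A p, A q⁆ := by
  rw [← commutatorElement_inv (A p) (A q)]
  exact inv_eq_of_mul_eq_one_left (pair_sq hc hA R h (hC.symm p q v h).2)

theorem pair_same {p q v : Fin n} {a b : Fin n} (h : T.sum p q = some v)
    (e : sameU (a, b) (p, q) = true) : ⁅A a, A b⁆ = ⁅A p, A q⁆ := by
  simp only [sameU, Bool.or_eq_true, decide_eq_true_eq, Prod.mk.injEq] at e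
  rcases e with ⟨rfl, rfl⟩ | ⟨rfl, rfl⟩
  · rfl
  · exact pair_flip hc hA R hC h

end lifts

/-- The system of lifts modulo two commutators. -/
theorem exists_lifts (hs : Function.Surjective σ) (hc : ∀ z, σ z = 1 → ∀ g : E, Commute z g)
    (R : Rels T x) {C : Cert n} (hC : C.Ok T) :
    ∃ (c₁ c₂ : E) (Y : Fin n → E), σ c₁ = 1 ∧ σ c₂ = 1 ∧ c₁ * c₁ = 1 ∧ c₂ * c₂ = 1 ∧
      (∀ r, σ (Y r) = x r) ∧ (∀ r, Y r * Y r = 1) ∧
      (∀ r s, T.isCom r s = true → ⁅Y r, Y s⁆ ∈ closure {c₁, c₂}) ∧
      ∀ r s v, T.sum r s = some v → ⁅Y r, Y s⁆ * (Y v)⁻¹ ∈ closure {c₁, c₂} := by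
  choose A hA using fun r => hs (x r)
  have hpath : ∀ {θ : Fin n} {p : Path n}, p.ok T θ = true →
      T.sum p.u p.b = some θ ∧ T.sum p.a p.v = some θ := by
    intro θ p h
    simp only [Path.ok, Bool.and_eq_true, decide_eq_true_eq] at h
    exact ⟨h.1.1.1.1.2, h.1.1.1.2⟩
  have hcom : ∀ {θ : Fin n} {p : Path n}, p.ok T θ = true → σ ⁅A p.u, A p.v⁆ = 1 := by
    intro θ p h
    obtain ⟨h1, h2⟩ := hpath h
    have e := congrArg σ (path_eq hc hA R h)
    rw [map_mul, lift_sum hc hA R h1, lift_sum hc hA R h2] at e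
    exact right_eq_mul.1 e
  set c₁ := ⁅A C.p1.u, A C.p1.v⁆ with hc1
  set c₂ := ⁅A C.p2.u, A C.p2.v⁆ with hc2
  set c₃ := ⁅A C.p3.u, A C.p3.v⁆ with hc3
  have hsq : ∀ {θ : Fin n} {p : Path n}, p.ok T θ = true →
      ⁅A p.u, A p.v⁆ * ⁅A p.u, A p.v⁆ = 1 := by
    intro θ p h
    have hk := hc _ (hcom h)
    have hq2 : σ (A p.v * A p.v) = σ 1 := by rw [map_mul, hA, R.sq, map_one]
    calc ⁅A p.u, A p.v⁆ * ⁅A p.u, A p.v⁆
        = ⁅A p.u, A p.v⁆ * (A p.v * ⁅A p.u, A p.v⁆ * (A p.v)⁻¹) := by
          rw [← (hk (A p.v)).eq, mul_inv_cancel_right]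
      _ = ⁅A p.u, A p.v * A p.v⁆ := by simp only [commutatorElement_def]; group
      _ = 1 := by rw [comm_congr hc rfl hq2, commutatorElement_one_right]
  set N := closure ({c₁, c₂} : Set E)
  have m1 : c₁ ∈ N := subset_closure (Or.inl rfl)
  have m2 : c₂ ∈ N := subset_closure (Or.inr rfl)
  have m3 : c₃ ∈ N := by
    have e1 := path_eq hc hA R hC.p1
    have e2 := path_eq hc hA R hC.p2
    have e3 := path_eq hc hA R hC.p3
    rw [pair_same hc hA R hC (hpath hC.p1).2 hC.m12] at e2
    rw [pair_same hc hA R hC (hpath hC.p2).2 hC.m32, pair_same hc hA R hC (hpath hC.p1).1 hC.m31,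
      e2, e1, ← hc1, ← hc2, ← hc3, ← mul_assoc] at e3
    rw [← mul_right_cancel e3]
    exact mul_mem m2 m1
  have hknown : ∀ e ∈ C.known, ⁅A e.1, A e.2⁆ ∈ N ∧ σ ⁅A e.1, A e.2⁆ = 1 := by
    have key : ∀ (l : List (Fin n × Fin n × Fin n)) (K K' : List (Fin n × Fin n)),
        (∀ e ∈ K, ⁅A e.1, A e.2⁆ ∈ N ∧ σ ⁅A e.1, A e.2⁆ = 1) → run T l K = some K' →
        ∀ e ∈ K', ⁅A e.1, A e.2⁆ ∈ N ∧ σ ⁅A e.1, A e.2⁆ = 1 := by
      intro l
      induction l with
      | nil =>
        intro K K' hK e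
        simp only [run, Option.some.injEq] at e
        exact e ▸ hK
      | cons step l ih =>
        obtain ⟨r, t, u⟩ := step
        intro K K' hK e
        simp only [run] at e
        split at e
        · rename_i r' t' hr ht
          split at e
          · rename_i hmem
            refine ih _ K' (fun e' he' => ?_) e
            rcases List.mem_cons.1 he' with rfl | he'
            swap
            · exact hK e' he'
            obtain ⟨⟨a, b⟩, hab, hsame⟩ := List.any_eq_true.1 hmem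
            obtain ⟨hN, h1⟩ := hK _ hab
            simp only [sameU, Bool.or_eq_true, decide_eq_true_eq, Prod.mk.injEq] at hsame
            have hN' : ⁅A r', A t'⁆ ∈ N ∧ σ ⁅A r', A t'⁆ = 1 := by
              rcases hsame with ⟨rfl, rfl⟩ | ⟨rfl, rfl⟩
              · exact ⟨hN, h1⟩
              · rw [← commutatorElement_inv (A t') (A r'), inv_mem_iff, map_inv, inv_eq_one]
                exact ⟨hN, h1⟩
            have hrt : σ ⁅A r, A t⁆ = 1 := by
              have hr' := R.conj_img hr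
              have ht' := R.conj_img ht
              have h2 := hN'.2
              rw [map_commutatorElement, hA, hA, ← hr', ← ht', ← conjugate_commutatorElement,
                conj_eq_one_iff] at h2
              rw [map_commutatorElement, hA, hA, h2]
            rw [img_comm hc hA R hr ht (hc _ hrt)] at hN'
            exact hN'
          · cases e
        · cases e
    refine key _ _ _ ?_ hC.run_eq
    intro e he
    simp only [Cert.base, List.mem_cons, List.not_mem_nil, or_false] at he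
    rcases he with rfl | rfl | rfl
    exacts [⟨m1, hcom hC.p1⟩, ⟨m2, hcom hC.p2⟩, ⟨m3, hcom hC.p3⟩]
  have hall : ∀ r s, T.isCom r s = true → ⁅A r, A s⁆ ∈ N := by
    intro r s h
    have hh := hC.far r s h
    simp only [Bool.or_eq_true] at hh
    rcases hh with (hh | hh) | hh
    · rw [commutatorElement_eq_one_iff_commute.2 (near_commute hc hA R hh (hA r) (hA s))]
      exact one_mem _
    · rw [commutatorElement_eq_one_iff_commute.2 (near_commute hc hA R hh (hA s) (hA r)).symm]
      exact one_mem _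
    · obtain ⟨⟨a, b⟩, hab, hsame⟩ := List.any_eq_true.1 hh
      simp only [sameU, Bool.or_eq_true, decide_eq_true_eq, Prod.mk.injEq] at hsame
      rcases hsame with ⟨rfl, rfl⟩ | ⟨rfl, rfl⟩
      · exact (hknown _ hab).1
      · rw [← commutatorElement_inv (A s) (A r)]
        exact inv_mem (hknown _ hab).1
  refine ⟨c₁, c₂, fun v => ⁅A (C.dec v).1, A (C.dec v).2⁆, hcom hC.p1, hcom hC.p2, hsq hC.p1,
    hsq hC.p2, fun v => lift_sum hc hA R (hC.dec v),
    fun v => pair_sq hc hA R (hC.dec v) (hC.symm _ _ _ (hC.dec v)).2, fun r s h => ?_,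
    fun r s v h => ?_⟩
  · rw [comm_congr hc (a' := A r) (b' := A s) (by rw [lift_sum hc hA R (hC.dec r), hA])
      (by rw [lift_sum hc hA R (hC.dec s), hA])]
    exact hall r s h
  · show ⁅_, _⁆ * (⁅A (C.dec v).1, A (C.dec v).2⁆)⁻¹ ∈ N
    rw [comm_congr hc (a' := A r) (b' := A s) (by rw [lift_sum hc hA R (hC.dec r), hA])
      (by rw [lift_sum hc hA R (hC.dec s), hA])]
    have hh := hC.paths r s v h
    simp only [Bool.or_eq_true, List.any_eq_true, Bool.and_eq_true] at hh
    rcases hh with hh | ⟨p, -, ⟨hp, hpd⟩, hprs⟩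
    · rw [pair_same hc hA R hC (hC.dec v) hh, mul_inv_cancel]
      exact one_mem _
    · have e := path_eq hc hA R hp
      rw [pair_same hc hA R hC h hprs, pair_same hc hA R hC (hC.dec v) hpd] at e
      rw [e, mul_inv_cancel_right]
      have hp' := hp
      simp only [Path.ok, Bool.and_eq_true, decide_eq_true_eq] at hp'
      exact hall _ _ hp'.2

end CfsgLib.Schur.D4Two
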